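import Cfsg.Agent.Mrg.Omega.NSix.CaseJ.PBlock
import Cfsg.Agent.Mrg.Omega.MutE.Perm


/-!
# OMEGA N6, (H2) (#18920 (5)): the input `eight` of `HT/Five.lean`  (helper546)

* `side_of_off` : an offender on the even-subset module which fixes a letter is generated by disjoint transpositions
  (orbit count; no assumption on the labelling);
* `hyp_of` : the frame `CaseJ.Base.Hyp` from `EvenSet`, `Fix0` and `J(S) ≰ O₂(P)`;
* `eight` : #16037 (8) (helper628, `CaseJ/Eight.lean`) in the form used in `HT/Five.lean`.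
-/

set_option autoImplicit false

namespace Cfsg.Agent.Omega.NSix.HT.EightIn

open Subgroup Cfsg Cfsg.Agent.Omega.MinPar
open Cfsg.Agent.ZN (o2 zc zl jj zj)
open Cfsg.Agent.Omega.S5.Def Cfsg.Agent.Omega.S5.Syl Cfsg.Agent.Omega.S5.Pair
open Cfsg.Agent.Omega.NSix.Base Cfsg.Agent.Omega.NSix.Basic
open Cfsg.Agent.Omega.FFThm (Off)
open Cfsg.Agent.Omega.MutE.Perm (Orb)
open Cfsg.Agent.MinSimple.MinParabolic (IsMinPar)

universe u

variable {G : Type u} [Group G]

section side

variable {n : ℕ} {V L A : Subgroup G} {ε : (Fin n → ZMod 2) → G}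

/-- the permutations induced by `A` -/
noncomputable def ph (h : EvenSet n V L ε) (hn : 3 ≤ n) (hAL : A ≤ L) : A →* Equiv.Perm (Fin n) :=
  (h.hom hn).comp (Subgroup.inclusion hAL)

theorem ph_acts (h : EvenSet n V L ε) (hn : 3 ≤ n) (hAL : A ≤ L) (a : A) : Acts ε (a : G) (ph h hn hAL a) :=
  h.acts_hom hn (Subgroup.inclusion hAL a)

theorem card_ker (h : EvenSet n V L ε) (hn : 3 ≤ n) (hAL : A ≤ L) :
    Nat.card (ph h hn hAL).ker = Nat.card ↥(A ⊓ centralizer (V : Set G)) := by
  have h1 : (ph h hn hAL).ker = (A ⊓ centralizer (V : Set G)).subgroupOf A := by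
    ext a
    rw [MonoidHom.mem_ker, mem_subgroupOf, mem_inf, ← h.acts_one_iff (g := (a : G))]
    constructor
    · intro h2
      have h3 := ph_acts h hn hAL a
      rw [h2] at h3
      exact ⟨a.2, h3⟩
    · rintro ⟨-, h2⟩
      exact h.acts_unique hn (ph_acts h hn hAL a) h2
  rw [h1]
  exact Nat.card_congr (Subgroup.subgroupOfEquivOfLe inf_le_left).toEquiv

/-- **Offenders on the even-subset module are generated by disjoint transpositions.** -/
theorem side_of_off [Finite G] [NeZero n] (h : EvenSet n V L ε) (hn : 3 ≤ n) (hAL : A ≤ L)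
    (h0 : ∀ a ∈ A, ∀ σ : Equiv.Perm (Fin n), Acts ε a σ → σ 0 = 0) (hoff : Off V A) : Side A ε := by
  classical
  set φ := ph h hn hAL with hφ
  have hact : ∀ a : A, Acts ε (a : G) (φ a) := ph_acts h hn hAL
  have hcomm : ∀ r s : φ.range, r * s = s * r := by
    rintro ⟨_, a, rfl⟩ ⟨_, b, rfl⟩
    apply Subtype.ext
    change φ a * φ b = φ b * φ a
    have h1 : a * b = b * a := hoff.elem.1.is_comm.comm a b
    rw [← map_mul, ← map_mul, h1]
  let iC : CommGroup φ.range := { (inferInstance : Group φ.range) with mul_comm := hcomm }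
  -- `0` is fixed
  have hz : ∀ r : φ.range, (r : Equiv.Perm (Fin n)) 0 = 0 := by
    rintro ⟨_, a, rfl⟩
    exact h0 _ a.2 _ (hact a)
  -- fixed vectors
  have hfix : ∀ x : Fin n → ZMod 2, ε x ∈ centralizer (A : Set G) → ∀ (r : φ.range) (i : Fin n),
      x ((r : Equiv.Perm (Fin n)) i) = x i := by
    rintro x hx ⟨_, a, rfl⟩ i
    have h1 : (a : G) * ε x * (a : G)⁻¹ = ε x := by
      rw [mem_centralizer_iff.1 hx _ a.2, mul_inv_cancel_right]
    rw [hact a x] at h1
    have h2 : x ∘ (φ a).symm = x := by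
      rcases h.eq_iff.1 h1 with h3 | h3
      · exact h3
      · exfalso
        have h4 := congrFun h3 0
        have h5 : (φ a).symm 0 = 0 := by
          rw [Equiv.symm_apply_eq]
          exact (h0 _ a.2 _ (hact a)).symm
        rw [Function.comp_apply, h5, Pi.add_apply, Pi.one_apply] at h4
        have h6 : ∀ t : ZMod 2, t ≠ t + 1 := by decide
        exact h6 _ h4
    have h3 := congrFun h2 (φ a i)
    rw [Function.comp_apply, Equiv.symm_apply_apply] at h3
    exact h3.symm
  have horb : ∀ x : Fin n → ZMod 2, ε x ∈ centralizer (A : Set G) → ∀ i : Fin n,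
      x ((Quotient.mk (MulAction.orbitRel φ.range (Fin n)) i).out) = x i := by
    intro x hx i
    obtain ⟨r, hr⟩ := MutE.Perm.out_mem (A := φ.range) i
    have h1 := hfix x hx r (Quotient.mk (MulAction.orbitRel φ.range (Fin n)) i).out
    have h2 : (r : Equiv.Perm (Fin n)) (Quotient.mk (MulAction.orbitRel φ.range (Fin n)) i).out = i := hr
    rw [h2] at h1
    exact h1.symm
  -- number of fixed vectors
  have hF : Nat.card ↥(V ⊓ centralizer (A : Set G)) * 2 ≤ 2 ^ Nat.card (Orb φ.range (Fin n)) := by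
    have hs : ∀ v : ↥(V ⊓ centralizer (A : Set G)), ∃ x, ε x = (v : G) := fun v => h.surj _ (mem_inf.1 v.2).1
    choose xx hxx using hs
    have h1 : Nat.card (Orb φ.range (Fin n) → ZMod 2) = 2 ^ Nat.card (Orb φ.range (Fin n)) := by
      rw [Nat.card_fun, Nat.card_eq_fintype_card (α := ZMod 2), ZMod.card]
    have h2 : Nat.card (↥(V ⊓ centralizer (A : Set G)) × ZMod 2) =
        Nat.card ↥(V ⊓ centralizer (A : Set G)) * 2 := by
      rw [Nat.card_prod, Nat.card_eq_fintype_card (α := ZMod 2), ZMod.card]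
    rw [← h1, ← h2]
    refine Nat.card_le_card_of_injective
      (fun p : ↥(V ⊓ centralizer (A : Set G)) × ZMod 2 => fun o : Orb φ.range (Fin n) =>
        xx p.1 o.out + (p.2 + xx p.1 0)) ?_
    rintro ⟨v, c⟩ ⟨w, d⟩ hvw
    have h3 : ∀ i, xx v i + (c + xx v 0) = xx w i + (d + xx w 0) := by
      intro i
      have h4 := congrFun hvw (Quotient.mk _ i)
      have h5 : ε (xx v) ∈ centralizer (A : Set G) := by rw [hxx]; exact (mem_inf.1 v.2).2
      have h6 : ε (xx w) ∈ centralizer (A : Set G) := by rw [hxx]; exact (mem_inf.1 w.2).2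
      simp only [] at h4
      rwa [horb _ h5, horb _ h6] at h4
    have hcd : c = d := by
      have h4 := h3 0
      have h5 : ∀ s t a b : ZMod 2, s + (a + s) = t + (b + t) → a = b := by decide
      exact h5 _ _ _ _ h4
    subst hcd
    have hvw' : v = w := by
      apply Subtype.ext
      rw [← hxx v, ← hxx w, h.eq_iff]
      have h7 : ∀ s t : ZMod 2, s = t ∨ s = t + 1 := by decide
      rcases h7 (xx v 0) (xx w 0) with h4 | h4
      · left
        funext i
        have h5 := h3 i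
        rw [h4] at h5
        exact add_right_cancel h5
      · right
        funext i
        have h5 := h3 i
        rw [h4] at h5
        rw [Pi.add_apply, Pi.one_apply]
        have h6 : ∀ a b c d : ZMod 2, a + (c + (d + 1)) = b + (c + d) → a = b + 1 := by decide
        exact h6 _ _ _ _ h5
    rw [hvw']
  -- the order of `V`
  have hV : 2 ^ n ≤ Nat.card V * 2 := by
    have h1 : Nat.card (Fin n → ZMod 2) = 2 ^ n := by
      rw [Nat.card_fun, Nat.card_eq_fintype_card (α := ZMod 2), ZMod.card, Nat.card_eq_fintype_card,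
        Fintype.card_fin]
    have h2 : Nat.card (V × ZMod 2) = Nat.card V * 2 := by
      rw [Nat.card_prod, Nat.card_eq_fintype_card (α := ZMod 2), ZMod.card]
    rw [← h1, ← h2]
    refine Nat.card_le_card_of_injective (fun x => ((⟨ε x, h.mem x⟩ : V), x 0)) ?_
    intro x y hxy
    have h3 : ε x = ε y := congrArg (fun p : V × ZMod 2 => (p.1 : G)) hxy
    have h4 : x 0 = y 0 := congrArg Prod.snd hxy
    rcases h.eq_iff.1 h3 with h5 | h5
    · exact h5
    · exfalso
      have h6 := congrFun h5 0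
      rw [Pi.add_apply, Pi.one_apply, h4] at h6
      have h7 : ∀ t : ZMod 2, t ≠ t + 1 := by decide
      exact h7 _ h6
  -- the count
  have hA : Nat.card φ.range * Nat.card ↥(A ⊓ centralizer (V : Set G)) = Nat.card A := by
    rw [← card_ker h hn hAL, ← Subgroup.index_ker, mul_comm]
    exact Subgroup.card_mul_index _
  have hle : 2 ^ (Nat.card (Fin n) - Nat.card (Orb φ.range (Fin n))) ≤ Nat.card φ.range := by
    have h1 := hoff.le
    rw [← hA] at h1
    have hk : 0 < Nat.card ↥(A ⊓ centralizer (V : Set G)) := Nat.card_pos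
    have h2 : Nat.card V ≤ Nat.card φ.range * Nat.card ↥(V ⊓ centralizer (A : Set G)) := by
      refine Nat.le_of_mul_le_mul_right (c := Nat.card ↥(A ⊓ centralizer (V : Set G))) ?_ hk
      calc _ ≤ _ := h1
        _ = _ := by ring
    have h3 : 2 ^ n ≤ Nat.card φ.range * 2 ^ Nat.card (Orb φ.range (Fin n)) := by
      calc 2 ^ n ≤ Nat.card V * 2 := hV
        _ ≤ Nat.card φ.range * Nat.card ↥(V ⊓ centralizer (A : Set G)) * 2 := Nat.mul_le_mul_right _ h2
        _ = Nat.card φ.range * (Nat.card ↥(V ⊓ centralizer (A : Set G)) * 2) := by ring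
        _ ≤ _ := Nat.mul_le_mul_left _ hF
    have h4 : Nat.card (Orb φ.range (Fin n)) ≤ n := by
      have := MutE.Perm.orb_le (A := φ.range) (Ω := Fin n)
      rwa [Nat.card_eq_fintype_card (α := Fin n), Fintype.card_fin] at this
    rw [Nat.card_eq_fintype_card (α := Fin n), Fintype.card_fin]
    refine Nat.le_of_mul_le_mul_right (c := 2 ^ Nat.card (Orb φ.range (Fin n))) ?_ (by positivity)
    rwa [← pow_add, Nat.sub_add_cancel h4]
  have key := MutE.Perm.exists_swap_perm (A := φ.range) (Ω := Fin n)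
    (fun r hr => Subtype.ext (Equiv.ext fun i => hr i)) hle
  intro a ha
  refine ⟨φ ⟨a, ha⟩, hact ⟨a, ha⟩, fun i hi => ⟨?_, ?_⟩⟩
  · have h1 : (⟨a, ha⟩ : A) * ⟨a, ha⟩ = 1 := by
      apply Subtype.ext
      have := hoff.elem.2 a ha
      rwa [pow_two] at this
    have h2 : φ ⟨a, ha⟩ * φ ⟨a, ha⟩ = 1 := by rw [← map_mul, h1, map_one]
    exact congrArg (fun τ : Equiv.Perm (Fin n) => τ i) h2
  · obtain ⟨⟨_, b, rfl⟩, h1, h2, h3⟩ := key ⟨φ ⟨a, ha⟩, ⟨⟨a, ha⟩, rfl⟩⟩ i hi
    refine ⟨b, b.2, ?_⟩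
    have h4 : φ b = Equiv.swap i (φ ⟨a, ha⟩ i) := by
      ext k
      congr 1
      by_cases hk : k = i
      · rw [hk, Equiv.swap_apply_left]
        exact h1
      · by_cases hk' : k = φ ⟨a, ha⟩ i
        · rw [hk', Equiv.swap_apply_right]
          exact h2
        · rw [Equiv.swap_apply_of_ne_of_ne hk hk']
          exact h3 k hk hk'
    rw [← h4]
    exact hact b

end side

section eight

variable [Finite G] {S : Sylow 2 G} {P : Subgroup G} {m : ℕ} {ε : (Fin (2 ^ m + 1) → ZMod 2) → G}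

/-- The frame of the case `J(S) ≰ O₂(P)`, for any labelling. -/
theorem hyp_of (hG : IsCharacteristicTwoType G) (hP : IsParS (S : Subgroup G) P) (hm : 2 ≤ m)
    (ev : EvenSet (2 ^ m + 1) (zl (S : Subgroup G) P) P ε) (fix0 : Fix0 ε (S : Subgroup G))
    (nJ : ¬ jj (S : Subgroup G) ≤ o2 P) : CaseJ.Base.Hyp S P ε where
  hG := hG
  hP := hP
  hm := hm
  ev := ev
  fix0 := fix0
  off := fun A hA hoff => side_of_off ev (three_le (by omega)) (hA.trans hP.isLoc.le)
    (fun a ha σ hσ => fix0 a (hA ha) σ hσ) hoff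
  nJ := nJ

/-- **The input `eight` of `HT/Five.lean`**: #16037 (8). -/
theorem eight (hFF : FFThm.Stmt.{u}) (hG : IsCharacteristicTwoType G) (hP : IsParS (S : Subgroup G) P)
    (hm : 3 ≤ m) (ev : EvenSet (2 ^ m + 1) (zl (S : Subgroup G) P) P ε) (fix0 : Fix0 ε (S : Subgroup G))
    {i j : Fin (2 ^ m + 1)} (hij : i ≠ j) (hb : ∃ b ∈ (S : Subgroup G), Acts ε b (Equiv.swap i j))
    (nJ : ¬ jj (S : Subgroup G) ≤ o2 P) (R : Subgroup G) (hR : IsMinPar ((S : Subgroup G) ⊓ NN ε i j) R)
    (hRN : R ≤ NN ε i j) (hRV : ¬ R ≤ normalizer (zl (S : Subgroup G) P : Set G)) :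
    ∀ v ∈ zl (S : Subgroup G) P, (∀ t ∈ (S : Subgroup G) ⊓ NN ε i j, t * v = v * t) → ∀ r ∈ R, r * v = v * r := by
  intro v hv hvc r hr
  have h1 := CaseJ.Eight.cent hFF (hyp_of hG hP (by omega) ev fix0 nJ) hm i j hij hb R hR hRN hRV hr
  exact (mem_centralizer_iff.1 h1 v (mem_inf.2 ⟨hv, mem_centralizer_iff.2 fun t ht => hvc t ht⟩)).symm

end eight

end Cfsg.Agent.Omega.NSix.HT.EightIn
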