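import Cfsg.Agent.Mrg.Omega.NSix.HT.LemN
import Cfsg.Agent.Mrg.Omega.NSix.TLg
import Cfsg.Agent.Mrg.Omega.NSix.Engine.ThmT


/-!
# OMEGA N6, (H2) without (ML) and THEOREM SN: #18920 (helper605) (4)

* `tl` : (TL'): `u ∈ U_ij`, `[u, U_ik] ≤ ⟨c⟩`, `c ∈ V_ij` ⟹ `[u, U_ik] = 1`;
* `kill` : `T ≥ XX`, `|T : K| ≤ 2`, `XX ≰ K`, `u ∈ U_ij`, `[u, K] ≤ ⟨ξ⟩`, `ξ ∈ C_V(T)` ⟹ `u ∈ V`;
* `four` : `C_G(r_ij, z_k)` fixes `λ` (normalises `Q0 ε i j`), from (1), (3) as hypotheses `syl`, `fus`, `key`.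
-/

set_option autoImplicit false
set_option linter.unusedSectionVars false

namespace Cfsg.Agent.Omega.NSix.HT.Four

open Subgroup Cfsg
open Cfsg.Agent.ZN (o2 zc zl)
open Cfsg.Agent.ZN.ChoiceSit (Syl)
open Cfsg.Agent.MinSimple.VModule (o2_le o2_isPGroup le_normalizer_o2 le_o2 mem_zc)
open Cfsg.Agent.Omega.S5.Def Cfsg.Agent.Omega.S5.Syl
open Cfsg.Agent.Omega.NSix.Base Cfsg.Agent.Omega.NSix.Basic Cfsg.Agent.Omega.NSix.Engine
open Cfsg.Agent.Omega.NSix.Engine.Fr (Cen)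
open Cfsg.Agent.Omega.NSix.CosetAct (V0 mem_V0)
open Cfsg.Agent.Omega.NSix.HTwo.LemTwo (In XX mem_XX KK_le_NN KK_eq exists_half pair_of XX_le_KK V0_le)
open Cfsg.Agent.Omega.NSix.HTwo (cS mem_cS cS_le comm_of_cS)
open Cfsg.Agent.Omega.NSix.HT.Five (Q0 fix_of_acts)
open Cfsg.Agent.Omega.NSix.TLEnd (Sy Nc)
open Cfsg.Agent.MinSimple.MinParabolic (IsMinPar)
open Cfsg.Agent.Omega.TTn.Di (cm cj cj_mul cj_inv cj_cj cj_one cj_eq_of_comm comm_of_cj cj_eq_cm cm_eq
  cm_one_iff cm_eq')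
open Cfsg.Agent.Omega.TTn

universe u

variable {G : Type u} [Group G] [Finite G]

section tl

variable {n : ℕ} {V P : Subgroup G} {ε : (Fin n → ZMod 2) → G} {i j k : Fin n} {S : Sylow 2 G} {m : ℕ}

omit [Finite G] in
theorem cj_cm (g a b : G) : cj g (cm a b) = cm (cj g a) (cj g b) := by
  unfold cj cm; group

/-- **(TL')** -/
theorem tl (s : Sy S V P ε m) (hnc : Nc ε) (hij : i ≠ j) (hki : k ≠ i) (hkj : k ≠ j) {u : G}
    (hu : u ∈ UU ε i j) {v : Fin n → ZMod 2} (hv : v i = v j)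
    (hc : ∀ y ∈ UU ε i k, cm u y = 1 ∨ cm u y = ε v) : Cen (UU ε) u i k := by
  by_contra hne
  have hne' : ∃ y0 ∈ UU ε i k, ¬ u * y0 = y0 * u := by
    by_contra hcon
    push Not at hcon
    exact hne hcon
  obtain ⟨y0, hy0, hne0⟩ := hne'
  have h := s.hyp
  obtain ⟨w, F⟩ := h.exists_fr
  have hy0v : cm u y0 = ε v := (hc y0 hy0).resolve_left fun h1 => hne0 (cm_one_iff.1 h1)
  have hv1 : ε v ≠ 1 := fun h1 => hne0 (cm_one_iff.1 (hy0v.trans h1))
  have huK := F.UK hij hu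
  -- `v i = v k`
  have hvk : v i = v k := by
    rw [← F.eU hki.symm, ← hy0v]
    exact F.cm_right hki.symm huK hy0
  have hjk : j ≠ k := hkj.symm
  -- `w = w j k` fixes `ε v`
  have hwv : cj (w j k) (ε v) = ε v := by
    have h1 := F.wA hjk v
    have h2 : v ∘ (Equiv.swap j k).symm = v := by
      funext a
      rw [Function.comp_apply, Equiv.symm_swap]
      rcases eq_or_ne a j with rfl | haj
      · rw [Equiv.swap_apply_left, ← hvk, hv]
      rcases eq_or_ne a k with rfl | hak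
      · rw [Equiv.swap_apply_right, ← hvk, hv]
      · rw [Equiv.swap_apply_of_ne_of_ne haj hak]
    rw [h2] at h1
    exact h1
  set a := cj (w j k) u with ha
  have haU : a ∈ UU ε i k := by
    rw [F.Usym]
    exact F.w1 hjk hij hki.symm (F.Usym i j ▸ hu)
  have haK : a ∈ KK ε := F.UK hki.symm haU
  have key : ∀ y ∈ UU ε i j, cm a y = 1 ∨ cm a y = ε v := by
    intro y hy
    have hy' : cj (w j k) y ∈ UU ε i k := by
      rw [F.Usym]
      exact F.w1 hjk hij hki.symm (F.Usym i j ▸ hy)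
    have h1 : cm a y = cj (w j k) (cm u (cj (w j k) y)) := by
      rw [cj_cm, F.cj_w_w hjk (F.UK hij hy)]
    rw [h1]
    rcases hc _ hy' with h2 | h2
    · left; rw [h2, cj_one]
    · right; rw [h2, hwv]
  have hcen := s.no_tv hnc hij (KK_le_NN i j haK) (v := v) hv hv1 ?_ (fun y hy => ?_) (fun y _ => Fr.Ke haK y)
  · -- contradiction
    have h1 : cj (w j k) y0 ∈ UU ε i j := by
      rw [F.Usym]
      exact F.w2 hjk hij hki.symm (F.Usym i k ▸ hy0)
    have h2 := hcen _ h1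
    have h3 : cm a (cj (w j k) y0) = 1 := cm_one_iff.2 h2
    rw [ha, ← cj_cm, hy0v, hwv] at h3
    exact hv1 h3
  · -- `ε v ≠ r_ij`
    intro h0
    rw [F.rr_eq, h.ev.eq_iff] at h0
    rcases h0 with h0 | h0
    · have e1 : v i = 1 := by
        rw [h0, Pi.add_apply, Pi.single_eq_same, Pi.single_eq_of_ne hij, add_zero]
      have e2 : v k = 0 := by
        rw [h0, Pi.add_apply, Pi.single_eq_of_ne hki, Pi.single_eq_of_ne hkj, add_zero]
      rw [e1, e2] at hvk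
      exact one_ne_zero hvk
    · have e3 := congrFun h0 i
      have e4 := congrFun h0 k
      simp only [Pi.add_apply, Pi.one_apply, Pi.single_eq_same, Pi.single_eq_of_ne hij,
        Pi.single_eq_of_ne hki, Pi.single_eq_of_ne hkj] at e3 e4
      rw [e3, e4] at hvk
      exact absurd hvk (by decide)
  · rcases key y hy with h1 | h1
    · left
      have h2 := cm_one_iff.1 h1
      rw [h2, mul_inv_cancel_right]
    · right
      have h2 : a * y * a⁻¹ = cm a y * y := by unfold cm; group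
      rw [h2, h1]
      exact F.Uab hij _ ((F.eU hij v).2 hv) _ hy

omit [Finite G] in
theorem p2 {a b c : G} (h : c * b = b * c) : a * c * b = a * b * c := by
  rw [mul_assoc, h, mul_assoc]

omit [Finite G] in
theorem p3 {a b c : G} (h : c * b = b * c) (h2 : c * c = 1) : a * c * (b * c) = a * b := by
  rw [← mul_assoc, p2 h, mul_assoc, h2, mul_one]

/-- the last step of (4) -/
theorem kill (s : Sy S V P ε m) (hnc : Nc ε) (hij : i ≠ j) {T K : Subgroup G} (hTN : T ≤ NN ε i j)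
    (hXT : XX ε i j ≤ T) (hK2 : ∀ a ∈ T, ∀ b ∈ T, a ∉ K → b ∉ K → b⁻¹ * a ∈ K)
    {t : G} (htX : t ∈ XX ε i j) (htK : t ∉ K) {ξ : Fin n → ZMod 2} (hξ : ξ i = ξ j)
    (hTξ : ∀ a ∈ T, a * ε ξ * a⁻¹ = ε ξ) {u : G} (hu : u ∈ UU ε i j)
    (hK : ∀ a ∈ K, a * u * a⁻¹ = u ∨ a * u * a⁻¹ = u * ε ξ) : ∃ x, u = ε x := by
  have h := s.hyp
  obtain ⟨w, F⟩ := h.exists_fr
  have hC : ThC ε (UU ε) := h.thC
  have htT : t ∈ T := hXT htX
  have hz : ε ξ ∈ UU ε i j := (F.eU hij ξ).2 hξ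
  have hzz : ε ξ * ε ξ = 1 := F.esq ξ
  obtain ⟨u', hu'⟩ : ∃ u', u' = t * u * t⁻¹ := ⟨_, rfl⟩
  have hu'U : u' ∈ UU ε i j := hu' ▸ UU_normal (hTN htT) hu
  obtain ⟨δ, hδ⟩ : ∃ δ, δ = u * u' := ⟨_, rfl⟩
  have hδU : δ ∈ UU ε i j := hδ ▸ mul_mem hu hu'U
  have huu : u * u = 1 := F.Usq hij u hu
  have huu' : u' * u' = 1 := F.Usq hij u' hu'U
  have hδδ : δ * δ = 1 := F.Usq hij δ hδU
  have c1 : u * u' = u' * u := F.Uab hij _ hu _ hu'U
  have c2 : ε ξ * u = u * ε ξ := F.Uab hij _ hz _ hu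
  have c3 : ε ξ * u' = u' * ε ξ := F.Uab hij _ hz _ hu'U
  have c4 : ε ξ * δ = δ * ε ξ := F.Uab hij _ hz _ hδU
  -- Claim A
  have hA : ∀ a ∈ T, a ∉ K → a * u * a⁻¹ = u' ∨ a * u * a⁻¹ = u' * ε ξ := by
    intro a ha haK
    have h1 := hK2 a ha t htT haK htK
    have h2 : a * u * a⁻¹ = t * (t⁻¹ * a * u * (t⁻¹ * a)⁻¹) * t⁻¹ := by group
    rcases hK _ h1 with h3 | h3
    · left; rw [h2, h3, hu']
    · right
      rw [h2, h3]
      have h4 : t * (u * ε ξ) * t⁻¹ = t * u * t⁻¹ * (t * ε ξ * t⁻¹) := by group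
      rw [h4, hTξ t htT, hu']
  -- Claim B
  have hB : ∀ a ∈ T, a * δ * a⁻¹ = δ ∨ a * δ * a⁻¹ = δ * ε ξ := by
    intro a ha
    have h0 : a * δ * a⁻¹ = a * u * a⁻¹ * (a * t * u * (a * t)⁻¹) := by rw [hδ, hu']; group
    by_cases haK : a ∈ K
    · have hat : a * t ∉ K := fun h1 => htK (by
        have := mul_mem (inv_mem haK) h1
        rwa [inv_mul_cancel_left] at this)
      rw [h0]
      rcases hK a haK with h1 | h1 <;> rcases hA _ (mul_mem ha htT) hat with h2 | h2 <;> rw [h1, h2]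
      · left; exact hδ.symm
      · right; rw [hδ, mul_assoc]
      · right
        rw [hδ, p2 c3]
      · left
        rw [hδ, p3 c3 hzz]
    · have hat : a * t ∈ K := by
        have h1 := hK2 t htT a⁻¹ (inv_mem ha) htK (fun h1 => haK (by simpa using inv_mem h1))
        rwa [inv_inv] at h1
      rw [h0]
      rcases hA a ha haK with h1 | h1 <;> rcases hK _ hat with h2 | h2 <;> rw [h1, h2]
      · left; rw [hδ, c1]
      · right; rw [hδ, c1, mul_assoc]
      · right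
        rw [hδ, c1, p2 c2]
      · left
        rw [hδ, c1, p3 c2 hzz]
  -- Claim C
  obtain ⟨x, hxi, hxj, hx⟩ : ∃ x : Fin n → ZMod 2, x i = 0 ∧ x j = 0 ∧ δ = ε x := by
    refine F.four_all hC hij hδU fun k hki hkj => tl s hnc hij hki hkj hδU hξ fun y hy => ?_
    have hyT : y ∈ T := hXT (mem_XX hki hkj hy)
    have h1 : cm δ y = δ * (y * δ * y⁻¹)⁻¹ := by unfold cm; group
    rcases hB y hyT with h2 | h2
    · left; rw [h1, h2, mul_inv_cancel]
    · right
      rw [h1, h2, mul_inv_rev, F.einv, ← mul_assoc, ← c4, mul_assoc, mul_inv_cancel, mul_one]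
  -- Claim D
  have hD : ∀ k, k ≠ i → k ≠ j → ∀ y ∈ UU ε i k, cm u y = 1 ∨ cm u y = ε ξ ∨ cm u y = δ ∨ cm u y = δ * ε ξ := by
    intro k hki hkj y hy
    have hyT : y ∈ T := hXT (mem_XX hki hkj hy)
    have h1 : cm u y = u * (y * u * y⁻¹)⁻¹ := by unfold cm; group
    have hui : u⁻¹ = u := inv_eq_of_mul_eq_one_left huu
    have hui' : u'⁻¹ = u' := inv_eq_of_mul_eq_one_left huu'
    by_cases hyK : y ∈ K
    · rcases hK y hyK with h2 | h2
      · left; rw [h1, h2, mul_inv_cancel]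
      · right; left
        rw [h1, h2, mul_inv_rev, F.einv, ← mul_assoc, ← c2, mul_assoc, mul_inv_cancel, mul_one]
    · rcases hA y hyT hyK with h2 | h2
      · right; right; left
        rw [h1, h2, hui', hδ]
      · right; right; right
        rw [h1, h2, mul_inv_rev, F.einv, hui', hδ, c3, mul_assoc]
  have hξx : (ξ + x) i = (ξ + x) j := by
    rw [Pi.add_apply, Pi.add_apply, hξ, hxi, hxj]
  have hδξ : δ * ε ξ = ε (ξ + x) := by rw [hx, ← F.add, add_comm]
  -- the closing lemma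
  obtain ⟨y, -, -, hy⟩ := HTwo.Fr.lem1' F hC hij hu (D := closure {ε ξ, δ}) fun k hki hkj => by
    by_cases hc : Cen (UU ε) u i k
    · exact Or.inl hc
    right
    set C := cS u (UU ε i k) with hCdef
    have hmem : ∀ y ∈ UU ε i k, cm u y ∈ C := fun y hy => mem_cS hy
    apply le_antisymm
    · refine cS_le fun y hy => ?_
      have e1 : ε ξ ∈ closure ({ε ξ, δ} : Set G) := subset_closure (by simp)
      have e2 : δ ∈ closure ({ε ξ, δ} : Set G) := subset_closure (by simp)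
      rcases hD k hki hkj y hy with h1 | h1 | h1 | h1 <;> rw [h1]
      · exact one_mem _
      · exact e1
      · exact e2
      · exact mul_mem e2 e1
    · by_cases hξC : ε ξ ∈ C
      · by_cases hδC : δ ∈ C
        · rw [closure_le]
          rintro z (rfl | rfl)
          · exact hξC
          · exact hδC
        · exfalso
          refine hc (tl s hnc hij hki hkj hu hξ fun y hy => ?_)
          rcases hD k hki hkj y hy with h1 | h1 | h1 | h1
          · exact Or.inl h1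
          · exact Or.inr h1
          · exact absurd (h1 ▸ hmem y hy) hδC
          · exfalso
            apply hδC
            have h2 := mul_mem (h1 ▸ hmem y hy) hξC
            rwa [mul_assoc, hzz, mul_one] at h2
      · exfalso
        by_cases hδC : δ ∈ C
        · refine hc (tl s hnc hij hki hkj hu (v := x) (by rw [hxi, hxj]) fun y hy => ?_)
          rcases hD k hki hkj y hy with h1 | h1 | h1 | h1
          · exact Or.inl h1
          · exact absurd (h1 ▸ hmem y hy) hξC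
          · exact Or.inr (h1.trans hx)
          · exfalso
            apply hξC
            have h2 := mul_mem hδC (h1 ▸ hmem y hy)
            rwa [← mul_assoc, hδδ, one_mul] at h2
        · refine hc (tl s hnc hij hki hkj hu hξx fun y hy => ?_)
          rcases hD k hki hkj y hy with h1 | h1 | h1 | h1
          · exact Or.inl h1
          · exact absurd (h1 ▸ hmem y hy) hξC
          · exact absurd (h1 ▸ hmem y hy) hδC
          · exact Or.inr (h1.trans hδξ)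
  exact ⟨y, hy⟩

end tl

section four

variable {m : ℕ} {S : Sylow 2 G} {V P : Subgroup G} {ε : (Fin (2 ^ m + 1) → ZMod 2) → G}
  {i j k : Fin (2 ^ m + 1)}

/-- (3) for one minimal parabolic -/
def Key (V : Subgroup G) (ε : (Fin (2 ^ m + 1) → ZMod 2) → G) (i j : Fin (2 ^ m + 1)) : Prop :=
  ∀ D T R : Subgroup G, D ≤ V0 ε i j → rr ε i j ∈ D →
    Syl T (centralizer (D : Set G) ⊓ normalizer (V : Set G)) → IsMinPar T R →
    R ≤ centralizer (D : Set G) → ¬ R ≤ normalizer (Q0 ε i j : Set G) →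
    (∀ g ∈ R, ∀ g' ∈ R, ∀ v ∈ V, ∀ w ∈ V,
      g * v * g⁻¹ * (g' * w * g'⁻¹) = g' * w * g'⁻¹ * (g * v * g⁻¹)) →
    (∀ t ∈ T, ∀ s ∈ T, t ∉ o2 R → s ∉ o2 R → t⁻¹ * s ∈ o2 R) ∧ ¬ XX ε i j ≤ o2 R ∧
      ∀ v ∈ V, (∀ t ∈ T, t * v = v * t) → ∀ r ∈ R, r * v = v * r

theorem sy_of (h : In S V P ε i j) (hm : 3 ≤ m) : Sy S V P ε m := ⟨h.hyp, h.SP, hm, rfl⟩

/-- `D` moves `λ` implies `D ≤ r_ij^⊥` -/
theorem le_V0 (h : In S V P ε i j) {D : Subgroup G} (hD : D ≤ V) (hr : rr ε i j ∈ D)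
    (hmv : ¬ centralizer (D : Set G) ≤ normalizer (Q0 ε i j : Set G)) : D ≤ V0 ε i j := by
  intro d hd
  obtain ⟨x, rfl⟩ := h.hyp.ev.surj d (hD hd)
  refine mem_V0 h.hyp.ev ?_
  by_contra hne
  rw [← Five.mv_iff (centralizer_le_NN h hr)] at hmv
  obtain ⟨g, hg, q, hq, hqK, hgq⟩ := hmv
  have hgN : g ∈ NN ε i j := centralizer_le_NN h hr hg
  have h1 : g * q * g⁻¹ ∈ o2 (NN ε i j) := (mem_normalizer_iff.1 (le_normalizer_o2 _ hgN) _).1 hq
  have h2 : Acts ε (g * q * g⁻¹) (Equiv.swap i j) := (h.hyp.QA h.ij h1).resolve_left hgq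
  have h3 : g * ε x = ε x * g := (mem_centralizer_iff.1 hg _ hd).symm
  have h4 : q * ε x = ε x * q := Fr.Ke hqK x
  have h5 : g * q * g⁻¹ * ε x * (g * q * g⁻¹)⁻¹ = ε x := by
    have e1 : g⁻¹ * ε x = ε x * g⁻¹ := by
      rw [inv_mul_eq_iff_eq_mul, ← mul_assoc, h3, mul_assoc, mul_inv_cancel, mul_one]
    calc g * q * g⁻¹ * ε x * (g * q * g⁻¹)⁻¹ = g * q * (g⁻¹ * ε x) * g * q⁻¹ * g⁻¹ := by group
      _ = g * (q * ε x) * q⁻¹ * g⁻¹ := by rw [e1]; group
      _ = g * ε x * g⁻¹ := by rw [h4]; group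
      _ = ε x := by rw [h3]; group
  rw [h2 x, h.hyp.ev.eq_iff] at h5
  rcases h5 with h5 | h5
  · have h6 := congrFun h5 i
    rw [Function.comp_apply, Equiv.symm_swap, Equiv.swap_apply_left] at h6
    exact hne h6.symm
  · obtain ⟨a, ha1, ha2, -, -⟩ := exists_fifth h.hyp.n5 i j i j
    have h6 := congrFun h5 a
    rw [Function.comp_apply, Equiv.symm_swap, Equiv.swap_apply_of_ne_of_ne ha1 ha2, Pi.add_apply,
      Pi.one_apply] at h6
    exact one_ne_zero (left_eq_add.1 h6)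

/-- **#18920 (4)**: `C_G(r_ij, z_k)` fixes `λ`. -/
theorem four (h : In S V P ε i j) (hm : 3 ≤ m) (hnc : Nc ε) (key : Key V ε i j)
    (hz : ∀ g ∈ centralizer ({zz ε k} : Set G), ∀ g' ∈ centralizer ({zz ε k} : Set G), ∀ v ∈ V, ∀ w ∈ V,
      g * v * g⁻¹ * (g' * w * g'⁻¹) = g' * w * g'⁻¹ * (g * v * g⁻¹)) :
    NN ε i j ⊓ centralizer ({zz ε k} : Set G) ≤ normalizer (Q0 ε i j : Set G) := by
  classical
  by_contra hmv
  have s := sy_of h hm
  obtain ⟨w, F⟩ := h.hyp.exists_fr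
  have hTT : Fact (Nat.Prime 2) := ⟨Nat.prime_two⟩
  -- a maximal `D`
  let 𝒟 : Set (Subgroup G) := {D | rr ε i j ∈ D ∧ zz ε k ∈ D ∧ D ≤ V ∧
    ¬ centralizer (D : Set G) ≤ normalizer (Q0 ε i j : Set G)}
  have hne : 𝒟.Nonempty := by
    refine ⟨closure {rr ε i j, zz ε k}, subset_closure (by simp), subset_closure (by simp), ?_, ?_⟩
    · rw [closure_le]
      rintro x (rfl | rfl)
      · exact rr_mem h.hyp.ev i j
      · exact zz_mem h.hyp.ev k
    · intro h1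
      refine hmv fun g hg => h1 ?_
      rw [centralizer_closure, mem_centralizer_iff]
      rintro x (rfl | rfl)
      · exact (mem_NN.1 hg.1).symm
      · exact (mem_centralizer_singleton_iff.1 hg.2).symm
  obtain ⟨D, hDmax⟩ := (Set.toFinite 𝒟).exists_maximal hne
  obtain ⟨hr, hzk, hDV, hDmv⟩ := hDmax.prop
  have hmax : ∀ D' : Subgroup G, D ≤ D' → D' ≤ V →
      ¬ centralizer (D' : Set G) ≤ normalizer (Q0 ε i j : Set G) → D' ≤ D := fun D' h1 h2 h3 =>
    hDmax.le_of_ge ⟨h1 hr, h1 hzk, h2, h3⟩ h1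
  have hDN : centralizer (D : Set G) ≤ NN ε i j := centralizer_le_NN h hr
  -- the Sylow group
  obtain ⟨T, hT, -⟩ := ZN.ChoiceSit.exists_syl (X := centralizer (D : Set G) ⊓ normalizer (V : Set G))
    (IsPGroup.of_bot (p := 2)) bot_le
  have hTC : T ≤ centralizer (D : Set G) := hT.1.trans inf_le_left
  have hTL : T ≤ normalizer (V : Set G) := hT.1.trans inf_le_right
  have hTN : T ≤ NN ε i j := hTC.trans hDN
  have hXT : XX ε i j ≤ T := XX_le_syl h hDV hT
  have hTs : Syl T (centralizer (D : Set G)) := syl_D h hDV hr hT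
  -- a minimal parabolic which moves `λ`
  obtain ⟨R, hR, hRD, hRmv⟩ : ∃ R : Subgroup G, IsMinPar T R ∧ R ≤ centralizer (D : Set G) ∧
      ¬ R ≤ normalizer (Q0 ε i j : Set G) := by
    by_contra hcon
    push Not at hcon
    exact hDmv (MinSimple.MinParabolic.le_of_forall hTC
      (fun g hg => L_fix h (hDN hg.1) (norm_syl h hDV hr hT hg)) hcon)
  have hRz : R ≤ centralizer ({zz ε k} : Set G) := fun g hg =>
    mem_centralizer_singleton_iff.2 (mem_centralizer_iff.1 (hRD hg) _ hzk).symm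
  obtain ⟨hK2, hXK, hcen⟩ := key D T R (le_V0 h hDV hr hDmv) hr hT hR hRD hRmv
    fun g hg g' hg' => hz g (hRz hg) g' (hRz hg')
  have hKT : o2 R ≤ T := MinSimple.VModule.o2_le_of_sylow hT.2.1 fun h1 =>
    ZN.ChoiceSit.syl_not_dvd hTs (by
      rw [← relIndex_mul_relIndex _ R _ hR.le hRD]
      exact h1.mul_right _)
  -- `D = C_V(T)`
  have hDT : V ⊓ centralizer (T : Set G) ≤ D := by
    refine hmax _ (le_inf hDV fun d hd => mem_centralizer_iff.2 fun t ht =>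
      (mem_centralizer_iff.1 (hTC ht) d hd).symm) inf_le_left fun h1 => hRmv ?_
    refine le_trans (fun r hr' => mem_centralizer_iff.2 fun v hv => ?_) h1
    exact (hcen v hv.1 (fun t ht => mem_centralizer_iff.1 hv.2 t ht) r hr').symm
  -- the action of `T` on the labels
  let f : T →* Equiv.Perm (Fin (2 ^ m + 1)) := (h.evL.hom h.hyp.n3).comp (Subgroup.inclusion hTL)
  have hf : ∀ y : T, Acts ε (y : G) (f y) := fun y => h.evL.acts_hom h.hyp.n3 (Subgroup.inclusion hTL y)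
  have hfij : ∀ (y : T) {k : Fin (2 ^ m + 1)}, k ≠ i → k ≠ j → f y k ≠ i ∧ f y k ≠ j := fun y k hki hkj =>
    pair_of h.hyp.ev h.hyp.n5 h.ij (hf y) (hTN y.2) hki hkj
  -- a label moved by `T`
  obtain ⟨a, hai, haj, y0, hy0⟩ : ∃ a, a ≠ i ∧ a ≠ j ∧ ∃ y0 : T, f y0 a ≠ a := by
    by_contra hcon
    push Not at hcon
    apply hDmv
    have h1 : V0 ε i j ≤ D := by
      refine le_trans (le_inf (V0_le h.hyp) ?_) hDT
      unfold V0
      rw [closure_le]
      rintro x ⟨a, hai, haj, rfl⟩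
      refine mem_centralizer_iff.2 fun t ht => ?_
      have h2 := zz_conj (hf ⟨t, ht⟩) a
      rw [hcon a hai haj] at h2
      exact mul_inv_eq_iff_eq_mul.1 h2
    intro g hg
    obtain ⟨σ, hσ⟩ : g ∈ LL ε := s.CV_le hnc h.ij (fun x => by
      have h2 : ε (TLg.ext i j x) ∈ D := h1 (mem_V0 h.hyp.ev (by rw [TLg.ext_i, TLg.ext_j]))
      exact (mem_centralizer_iff.1 hg _ h2).symm)
    exact fix_of_acts hσ (hDN hg)
  obtain ⟨ν, ν', e1, e2, e3, e4, y1, e5⟩ := exists_half hT.2.1 f hy0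
  obtain ⟨i1, i2⟩ := e3 i fun y => (hfij y hai haj).1
  obtain ⟨j1, j2⟩ := e3 j fun y => (hfij y hai haj).2
  have hνν : ν ≠ ν' := fun h1 => one_ne_zero (e1.symm.trans ((congrFun h1 a).trans e2))
  -- `ξ = ν + ν'` is invariant
  have hinv : ∀ y : T, (ν + ν') ∘ (f y).symm = ν + ν' := by
    intro y
    have hinj : ∀ g g' : Fin (2 ^ m + 1) → ZMod 2, g ∘ (f y).symm = g' ∘ (f y).symm → g = g' := by
      intro g g' hgg
      funext b
      have := congrFun hgg (f y b)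
      simpa using this
    have h1 : ν' ∘ (f y).symm = ν ∨ ν' ∘ (f y).symm = ν' := by
      have h2 := e4 (y * y1)
      have h3 : ν ∘ (f (y * y1)).symm = ν' ∘ (f y).symm := by
        rw [← e5, map_mul]
        rfl
      rwa [h3] at h2
    have h0 : (ν + ν') ∘ (f y).symm = ν ∘ (f y).symm + ν' ∘ (f y).symm := rfl
    rw [h0]
    rcases e4 y with h2 | h2 <;> rcases h1 with h3 | h3
    · exact absurd (hinj _ _ (h2.trans h3.symm)) hνν
    · rw [h2, h3]
    · rw [h2, h3]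
      exact add_comm ν' ν
    · exact absurd (hinj _ _ (h2.trans h3.symm)) hνν
  have hTξ : ∀ t ∈ T, t * ε (ν + ν') * t⁻¹ = ε (ν + ν') := by
    intro t ht
    rw [hf ⟨t, ht⟩, hinv]
  have hξD : ε (ν + ν') ∈ D := hDT (mem_inf.2 ⟨h.hyp.ev.mem _, mem_centralizer_iff.2 fun t ht =>
    mul_inv_eq_iff_eq_mul.1 (hTξ t ht)⟩)
  -- `x ∈ R` moves `λ`
  obtain ⟨x, hxR, hxmv⟩ := Set.not_subset.1 hRmv
  replace hxR : x ∈ R := hxR
  have hxN : x ∈ NN ε i j := hDN (hRD hxR)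
  have hxD : ∀ d ∈ D, x * d * x⁻¹ = d := fun d hd => by
    rw [← mem_centralizer_iff.1 (hRD hxR) d hd, mul_inv_cancel_right]
  -- `V ∩ V^x = D`
  have hVV : V ⊓ V.map (MulAut.conj x).toMonoidHom ≤ D := by
    obtain ⟨c, hc, hcx⟩ := fusion h hxN
    refine hmax _ (le_inf hDV fun d hd => ⟨d, hDV hd, hxD d hd⟩) inf_le_left fun h1 => hxmv ?_
    have hcN : c ∈ NN ε i j := mem_NN.2 (mem_centralizer_iff.1 hc _
      ⟨rr_mem h.hyp.ev i j, rr ε i j, rr_mem h.hyp.ev i j, mem_NN'.1 hxN⟩).symm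
    have h2 := mul_mem (h1 hc) (L_fix h (mul_mem (inv_mem hcN) hxN) hcx)
    rwa [mul_inv_cancel_left] at h2
  -- the end
  have hνU : ε ν ∈ UU ε i j := (h.hyp.eU h.ij ν).2 (by rw [i1, j1])
  obtain ⟨t, htX, htK⟩ := Set.not_subset.1 hXK
  obtain ⟨x', hx'⟩ := kill s hnc h.ij (T := T) (K := o2 R) hTN hXT
    (fun a ha b hb haK hbK => hK2 b hb a ha hbK haK) htX htK (ξ := ν + ν')
    (by rw [Pi.add_apply, Pi.add_apply, i1, i2, j1, j2]) hTξ (u := x * ε ν * x⁻¹) (UU_normal hxN hνU) (by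
      intro b hb
      have hb' : x⁻¹ * b * x ∈ o2 R := by
        have := (mem_normalizer_iff.1 (inv_mem (le_normalizer_o2 R hxR)) b).1 hb
        rwa [inv_inv] at this
      have h1 : b * (x * ε ν * x⁻¹) * b⁻¹ = x * (x⁻¹ * b * x * ε ν * (x⁻¹ * b * x)⁻¹) * x⁻¹ := by group
      have h2 := hf ⟨_, hKT hb'⟩ ν
      rw [h1]
      change x⁻¹ * b * x * ε ν * (x⁻¹ * b * x)⁻¹ = _ at h2
      rw [h2]
      rcases e4 ⟨_, hKT hb'⟩ with h3 | h3
      · left; rw [h3]
      · right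
        rw [h3]
        have h4 : ν' = ν + (ν + ν') := by
          funext b
          rw [Pi.add_apply, Pi.add_apply, ← add_assoc, CharTwo.add_self_eq_zero, zero_add]
        have h5 : ε ν' = ε ν * ε (ν + ν') := by rw [← h.hyp.ev.add, ← h4]
        rw [h5]
        calc x * (ε ν * ε (ν + ν')) * x⁻¹ = x * ε ν * x⁻¹ * (x * ε (ν + ν') * x⁻¹) := by group
          _ = _ := by rw [hxD _ hξD])
  have hu : x * ε ν * x⁻¹ ∈ D := hVV ⟨hx' ▸ h.hyp.ev.mem x', ε ν, h.hyp.ev.mem ν, rfl⟩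
  have h1 : ε ν ∈ D := by
    have h2 := hxD _ hu
    rwa [mul_left_cancel (mul_right_cancel h2)] at hu
  have h2 := hf y1 ν
  rw [e5, (mem_centralizer_iff.1 (hTC y1.2) _ h1).symm, mul_inv_cancel_right, h.hyp.ev.eq_iff] at h2
  rcases h2 with h2 | h2
  · exact hνν h2
  · have h3 := congrFun h2 i
    rw [Pi.add_apply, i1, i2, Pi.one_apply, zero_add] at h3
    exact zero_ne_one h3

end four

end Cfsg.Agent.Omega.NSix.HT.Four
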