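import Cfsg.Agent.Mrg.Omega.FF.TvPts
import Cfsg.Agent.Mrg.Omega.NSix.JNot


/-!
# OMEGA N6, #18920 (helper605) (3): the KEY LEMMA  (helper537)

`Q = O₂(C_G(r_ij))`, `λ : Q → F_2` with kernel `Q0 ε i j`; `T ≤ R ≤ C_G(r_ij)`, `R` a minimal parabolic over its Sylow
2-subgroup `T`, `T` fixes `λ`, `R` moves `λ`, `X₀ = XX ε i j ≤ T`, `X₀ ≰ O₂(R)`, `[V, V^x] = 1` for `x ∈ R`.

* `Ki.exists_t` : some `t ∈ U_ik` is not in `O₂(R)`;
* `Ki.two_cosets` : `T = O₂(R) ∪ t O₂(R)`;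
* `Ki.cent` : `R` centralises `C_V(T)`;
* `key` : the same for `r_ij ∈ D ≤ V ∩ r_ij^⊥`, `T ∈ Syl₂(C_G(D))`, `X₀ ≤ T ≤ N_G(V)`, `R ≤ C_G(D)`.
-/

set_option autoImplicit false
set_option linter.unusedSectionVars false

namespace Cfsg.Agent.Omega.NSix.HT.Key

open Subgroup Cfsg Cfsg.Agent.Omega.MinPar
open Cfsg.Agent.ZN (o2 zc zl)
open Cfsg.Agent.ZN.ChoiceSit (Syl)
open Cfsg.Agent.MinSimple.VModule (o2_le o2_isPGroup le_normalizer_o2 le_o2 mem_zc)
open Cfsg.Agent.Omega.S5.Def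
open Cfsg.Agent.Omega.NSix.Base Cfsg.Agent.Omega.NSix.Basic Cfsg.Agent.Omega.NSix.Engine
open Cfsg.Agent.Omega.NSix.CosetAct (V0 mem_V0)
open Cfsg.Agent.Omega.NSix.HTwo.LemTwo (XX mem_XX KK_le_NN XX_le_KK V0_le V0_le_UU one_of lem2 norm_V0 pair_of)
open Cfsg.Agent.Omega.NSix.HT.Five (Q0 fix_of_acts mv_iff)
open Cfsg.Agent.MinSimple.MinParabolic (IsMinPar IsMin)
open Cfsg.Agent.Omega.TTn Cfsg.Agent.Omega.Tv
open Cfsg.Agent.Omega.TTn.Di (cm)

universe u

variable {G : Type u} [Group G] {n : ℕ} {V P : Subgroup G} {ε : (Fin n → ZMod 2) → G} {i j : Fin n}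

/-! ### `λ` and its conjugates -/

open Classical in
/-- `λ`, extended by `0` -/
noncomputable def lam (ε : (Fin n → ZMod 2) → G) (i j : Fin n) : G → ZMod 2 :=
  fun q => if q ∈ o2 (NN ε i j) ∧ ¬ q ∈ KK ε then 1 else 0

theorem lam_one {q : G} (hq : q ∈ o2 (NN ε i j)) (h : ¬ q ∈ KK ε) : lam ε i j q = 1 := by
  classical
  exact if_pos ⟨hq, h⟩

theorem lam_K {q : G} (h : q ∈ KK ε) : lam ε i j q = 0 := by
  classical
  exact if_neg fun h1 => h1.2 h

theorem lam_off {q : G} (h : ¬ q ∈ o2 (NN ε i j)) : lam ε i j q = 0 := by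
  classical
  exact if_neg fun h1 => h h1.1

/-- `f ↦ f(g⁻¹ · g)` -/
def cjf (g : G) : (G → ZMod 2) →ₗ[ZMod 2] (G → ZMod 2) := LinearMap.funLeft (ZMod 2) (ZMod 2) fun q => g⁻¹ * q * g

theorem cjf_apply (g : G) (f : G → ZMod 2) (q : G) : cjf g f q = f (g⁻¹ * q * g) := rfl

theorem cjf_mul (g h : G) (f : G → ZMod 2) : cjf (g * h) f = cjf g (cjf h f) := by
  funext q
  rw [cjf_apply, cjf_apply, cjf_apply]
  congr 1
  group

theorem cjf_one (f : G → ZMod 2) : cjf (1 : G) f = f := by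
  funext q
  rw [cjf_apply, inv_one, one_mul, mul_one]

/-- the span of the conjugates of `λ` -/
def Fl (ε : (Fin n → ZMod 2) → G) (i j : Fin n) (R : Subgroup G) : Submodule (ZMod 2) (G → ZMod 2) :=
  Submodule.span (ZMod 2) {f | ∃ g ∈ R, f = cjf g (lam ε i j)}

theorem Fl_gen {R : Subgroup G} {g : G} (hg : g ∈ R) : cjf g (lam ε i j) ∈ Fl ε i j R :=
  Submodule.subset_span ⟨g, hg, rfl⟩

theorem lam_mem (R : Subgroup G) : lam ε i j ∈ Fl ε i j R := by
  have := Fl_gen (ε := ε) (i := i) (j := j) (one_mem R)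
  rwa [cjf_one] at this

theorem Fl_inv {R : Subgroup G} {g : G} (hg : g ∈ R) : ∀ f ∈ Fl ε i j R, cjf g f ∈ Fl ε i j R := by
  intro f hf
  unfold Fl at hf
  induction hf using Submodule.span_induction with
  | mem x hx =>
    obtain ⟨y, hy, rfl⟩ := hx
    rw [← cjf_mul]
    exact Fl_gen (mul_mem hg hy)
  | zero => rw [map_zero]; exact zero_mem _
  | add x y _ _ hx hy => rw [map_add]; exact add_mem hx hy
  | smul a x _ hx => rw [map_smul]; exact Submodule.smul_mem _ _ hx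

/-- the representation -/
noncomputable def rep (ε : (Fin n → ZMod 2) → G) (i j : Fin n) (R : Subgroup G) :
    R →* (Fl ε i j R ≃ₗ[ZMod 2] Fl ε i j R) :=
  mkRho
    { toFun := fun g => (cjf (g : G)).restrict (Fl_inv g.2)
      map_one' := by
        ext f
        exact congrFun (cjf_one _) _
      map_mul' := fun a b => by
        ext f
        exact congrFun (cjf_mul _ _ _) _ }

theorem rep_val {R : Subgroup G} (g : R) (f : Fl ε i j R) : (rep ε i j R g f : G → ZMod 2) = cjf (g : G) f := rfl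

/-- the stabiliser of `λ` -/
theorem cjf_lam_iff [Finite G] {g : G} (hg : g ∈ NN ε i j) :
    cjf g (lam ε i j) = lam ε i j ↔ g ∈ normalizer (Q0 ε i j : Set G) := by
  have hQ : ∀ {g q : G}, g ∈ NN ε i j → q ∈ o2 (NN ε i j) → g * q * g⁻¹ ∈ o2 (NN ε i j) := fun hg hq =>
    (mem_normalizer_iff.1 (le_normalizer_o2 _ hg) _).1 hq
  constructor
  · intro h1
    refine DiCoreAbs.mem_norm_of fun x hx => mem_inf.2 ⟨hQ hg hx.1, ?_⟩
    by_contra hK
    have h2 := congrFun h1 (g * x * g⁻¹)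
    rw [cjf_apply, lam_one (hQ hg hx.1) hK] at h2
    have h3 : g⁻¹ * (g * x * g⁻¹) * g = x := by group
    rw [h3, lam_K hx.2] at h2
    exact zero_ne_one h2
  · intro h1
    funext q
    rw [cjf_apply]
    by_cases hq : q ∈ o2 (NN ε i j)
    · have hq' : g⁻¹ * q * g ∈ o2 (NN ε i j) := by
        have := hQ (inv_mem hg) hq
        rwa [inv_inv] at this
      by_cases hK : q ∈ KK ε
      · have h2 := (mem_normalizer_iff.1 (inv_mem h1) q).1 (mem_inf.2 ⟨hq, hK⟩)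
        rw [inv_inv] at h2
        rw [lam_K hK, lam_K h2.2]
      · rw [lam_one hq hK, lam_one hq']
        intro h2
        have h3 := (mem_normalizer_iff.1 h1 _).1 (mem_inf.2 ⟨hq', h2⟩)
        have h4 : g * (g⁻¹ * q * g) * g⁻¹ = q := by group
        rw [h4] at h3
        exact hK h3.2
    · rw [lam_off hq, lam_off]
      intro h2
      apply hq
      have h3 := hQ hg h2
      have h4 : g * (g⁻¹ * q * g) * g⁻¹ = q := by group
      rwa [h4] at h3

/-! ### The setting -/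

/-- The setting of the KEY LEMMA. -/
structure Ki (V P : Subgroup G) (ε : (Fin n → ZMod 2) → G) (i j : Fin n) (T R : Subgroup G) : Prop where
  hyp : Engine.Hyp V P ε
  ij : i ≠ j
  two : IsPGroup 2 T
  min : IsMinPar T R
  syl : ¬ 2 ∣ T.relIndex R
  RN : R ≤ NN ε i j
  QT : o2 (NN ε i j) ≤ T
  Tfix : T ≤ normalizer (Q0 ε i j : Set G)
  XT : XX ε i j ≤ T
  XK : ¬ XX ε i j ≤ o2 R
  comm : ∀ g ∈ R, ∀ v ∈ V, ∀ w ∈ V, g * v * g⁻¹ * w = w * (g * v * g⁻¹)
  mv : ¬ R ≤ normalizer (Q0 ε i j : Set G)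

namespace Ki

variable [Finite G] {T R : Subgroup G} (h : Ki V P ε i j T R)
include h

theorem KT : o2 R ≤ T := MinSimple.VModule.o2_le_of_sylow h.two h.syl

theorem TN : T ≤ NN ε i j := h.min.le.trans h.RN

theorem exists_t : ∃ k, k ≠ i ∧ k ≠ j ∧ ∃ t ∈ UU ε i k, ¬ t ∈ o2 R := by
  by_contra hcon
  push Not at hcon
  apply h.XK
  unfold XX
  rw [closure_le]
  rintro x ⟨k, hki, hkj, hx⟩
  exact hcon k hki hkj x hx

/-- `λ` is additive on `Q` -/
theorem lam_mul {a b : G} (ha : a ∈ o2 (NN ε i j)) (hb : b ∈ o2 (NN ε i j)) :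
    lam ε i j (a * b) = lam ε i j a + lam ε i j b := by
  have hns : ¬ Acts ε (1 : G) (Equiv.swap i j) := by
    intro h1
    have h2 := h.hyp.ev.acts_unique h.hyp.n3 Acts.one h1
    have h3 := congrArg (fun σ : Equiv.Perm (Fin n) => σ i) h2
    simp only [Equiv.Perm.one_apply, Equiv.swap_apply_left] at h3
    exact h.ij h3
  have hK : ∀ {q : G}, Acts ε q (Equiv.swap i j) → ¬ q ∈ KK ε := by
    intro q h1 h2
    have h3 := h1.mul (mem_KK.1 h2).inv
    rw [inv_one, mul_one, mul_inv_cancel] at h3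
    exact hns h3
  rcases h.hyp.QA h.ij ha with h1 | h1 <;> rcases h.hyp.QA h.ij hb with h2 | h2
  · rw [lam_K (mem_KK.2 h1), lam_K (mem_KK.2 h2), lam_K (mul_mem (mem_KK.2 h1) (mem_KK.2 h2)), add_zero]
  · have h3 := h1.mul h2
    rw [one_mul] at h3
    rw [lam_K (mem_KK.2 h1), lam_one hb (hK h2), lam_one (mul_mem ha hb) (hK h3), zero_add]
  · have h3 := h1.mul h2
    rw [mul_one] at h3
    rw [lam_K (mem_KK.2 h2), lam_one ha (hK h1), lam_one (mul_mem ha hb) (hK h3), add_zero]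
  · have h3 := h1.mul h2
    rw [Equiv.swap_mul_self] at h3
    rw [lam_one ha (hK h1), lam_one hb (hK h2), lam_K (mem_KK.2 h3)]
    decide

/-- the functions in `Fl`: `0` off `Q`, additive on `Q` -/
theorem Fl_prop {f : G → ZMod 2} (hf : f ∈ Fl ε i j R) : (∀ q, ¬ q ∈ o2 (NN ε i j) → f q = 0) ∧
    ∀ a ∈ o2 (NN ε i j), ∀ b ∈ o2 (NN ε i j), f (a * b) = f a + f b := by
  unfold Fl at hf
  induction hf using Submodule.span_induction with
  | mem x hx =>
    obtain ⟨g, hg, rfl⟩ := hx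
    have hgN := h.RN hg
    constructor
    · intro q hq
      rw [cjf_apply, lam_off]
      intro h1
      apply hq
      have h2 := (mem_normalizer_iff.1 (le_normalizer_o2 _ hgN) _).1 h1
      have h3 : g * (g⁻¹ * q * g) * g⁻¹ = q := by group
      rwa [h3] at h2
    · intro a ha b hb
      have h2 : ∀ {q : G}, q ∈ o2 (NN ε i j) → g⁻¹ * q * g ∈ o2 (NN ε i j) := by
        intro q hq
        have := (mem_normalizer_iff.1 (le_normalizer_o2 _ (inv_mem hgN)) _).1 hq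
        rwa [inv_inv] at this
      rw [cjf_apply, cjf_apply, cjf_apply, ← h.lam_mul (h2 ha) (h2 hb)]
      congr 1
      group
  | zero => exact ⟨fun _ _ => rfl, fun _ _ _ _ => by simp⟩
  | add x y _ _ hx hy =>
    refine ⟨fun q hq => ?_, fun a ha b hb => ?_⟩
    · rw [Pi.add_apply, hx.1 q hq, hy.1 q hq, add_zero]
    · rw [Pi.add_apply, Pi.add_apply, Pi.add_apply, hx.2 a ha b hb, hy.2 a ha b hb]
      ring
  | smul c x _ hx =>
    refine ⟨fun q hq => ?_, fun a ha b hb => ?_⟩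
    · rw [Pi.smul_apply, hx.1 q hq, smul_zero]
    · rw [Pi.smul_apply, Pi.smul_apply, Pi.smul_apply, hx.2 a ha b hb, smul_add]

/-- **#18920 (2)**: `[λ^x, U_ik] ≤ ⟨λ⟩` -/
theorem Fl_ker {k : Fin n} (hki : k ≠ i) (hkj : k ≠ j) {t : G} (ht : t ∈ UU ε i k) {f : G → ZMod 2}
    (hf : f ∈ Fl ε i j R) {q : G} (hq : q ∈ o2 (NN ε i j)) (hqK : q ∈ KK ε) : f (t⁻¹ * q * t) = f q := by
  obtain ⟨w, F⟩ := h.hyp.exists_fr
  have htK := h.hyp.UK hki.symm ht
  have htN : t ∈ NN ε i j := KK_le_NN i j htK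
  unfold Fl at hf
  induction hf using Submodule.span_induction with
  | mem x hx =>
    obtain ⟨g, hg, rfl⟩ := hx
    have hgN := h.RN hg
    rw [cjf_apply, cjf_apply]
    set u := t⁻¹ * q * t * q⁻¹ with hu
    have huQ : u ∈ o2 (NN ε i j) := by
      refine mul_mem ?_ (inv_mem hq)
      have := (mem_normalizer_iff.1 (le_normalizer_o2 _ (inv_mem htN)) _).1 hq
      rwa [inv_inv] at this
    have huU : u ∈ UU ε i k := by
      have h1 : u = t⁻¹ * (q * t * q⁻¹) := by rw [hu]; group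
      rw [h1]
      refine mul_mem (inv_mem ht) ?_
      have h2 := UU_conj (mem_KK.1 hqK) ht
      rwa [Equiv.Perm.one_apply, Equiv.Perm.one_apply] at h2
    -- `u` commutes with `V^g`
    have hcU : ∀ y ∈ UU ε i j, ∀ v ∈ V, y * (g * v * g⁻¹) = g * v * g⁻¹ * y := by
      intro y hy v hv
      have h1 : g⁻¹ * y * g ∈ UU ε i j := by
        have := UU_normal (inv_mem hgN) hy
        rwa [inv_inv] at this
      have h2 : g⁻¹ * y * g * v = v * (g⁻¹ * y * g) := by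
        have h3 := h.hyp.UK h.ij h1
        rw [HTwo.LemTwo.KK_eq h.hyp] at h3
        exact (mem_centralizer_iff.1 h3 v hv).symm
      calc y * (g * v * g⁻¹) = g * (g⁻¹ * y * g * v) * g⁻¹ := by group
        _ = g * (v * (g⁻¹ * y * g)) * g⁻¹ := by rw [h2]
        _ = g * v * g⁻¹ * y := by group
    have hcu : ∀ v ∈ V, u * (g * v * g⁻¹) = g * v * g⁻¹ * u := by
      intro v hv
      obtain ⟨-, h1 | h1⟩ := F.ppQ h.ij hki hkj huU huQ
      · exact hcU u h1 v hv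
      · have hz := h.comm g hg v hv (zz ε j) (zz_mem h.hyp.ev j)
        have h2 := hcU _ h1 v hv
        have h3 : u = u * zz ε j * (zz ε j)⁻¹ := by group
        have h4 : (zz ε j)⁻¹ * (g * v * g⁻¹) = g * v * g⁻¹ * (zz ε j)⁻¹ := by
          rw [zz_inv h.hyp.ev]; exact hz.symm
        calc u * (g * v * g⁻¹) = u * zz ε j * ((zz ε j)⁻¹ * (g * v * g⁻¹)) := by group
          _ = u * zz ε j * (g * v * g⁻¹) * (zz ε j)⁻¹ := by rw [h4]; group
          _ = g * v * g⁻¹ * u := by rw [h2]; group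
    have huK : g⁻¹ * u * g ∈ KK ε := by
      rw [HTwo.LemTwo.KK_eq h.hyp, mem_centralizer_iff]
      intro v hv
      have h1 := hcu v hv
      calc v * (g⁻¹ * u * g) = g⁻¹ * (g * v * g⁻¹ * u) * g := by group
        _ = g⁻¹ * (u * (g * v * g⁻¹)) * g := by rw [h1]
        _ = g⁻¹ * u * g * v := by group
    have hcj : ∀ {q : G}, q ∈ o2 (NN ε i j) → g⁻¹ * q * g ∈ o2 (NN ε i j) := by
      intro q hq
      have := (mem_normalizer_iff.1 (le_normalizer_o2 _ (inv_mem hgN)) _).1 hq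
      rwa [inv_inv] at this
    have h1 : g⁻¹ * (t⁻¹ * q * t) * g = g⁻¹ * u * g * (g⁻¹ * q * g) := by rw [hu]; group
    rw [h1, h.lam_mul (hcj huQ) (hcj hq), lam_K huK, zero_add]
  | zero => rfl
  | add x y _ _ hx hy => rw [Pi.add_apply, Pi.add_apply, hx, hy]
  | smul c x _ hx => rw [Pi.smul_apply, Pi.smul_apply, hx]

/-- the Sylow subgroup of `R` -/
noncomputable def SR : Sylow 2 R :=
  (show IsPGroup 2 (T.subgroupOf R) from h.two.comap_of_injective _ R.subtype_injective).toSylow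
    (by have : Fact (Nat.Prime 2) := ⟨Nat.prime_two⟩; exact h.syl)

theorem mem_SR {x : R} : x ∈ h.SR ↔ (x : G) ∈ T := Iff.rfl

theorem fix {s : G} (hs : s ∈ T) : cjf s (lam ε i j) = lam ε i j :=
  (cjf_lam_iff (h.TN hs)).2 (h.Tfix hs)

theorem exists_isMin : ∃ M : Subgroup R, IsMin (h.SR : Subgroup R) M := h.min.exists_isMin

theorem mem_ker {x : R} : x ∈ (rep ε i j R).ker ↔ ∀ f ∈ Fl ε i j R, cjf (x : G) f = f := by
  rw [MonoidHom.mem_ker]
  constructor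
  · intro h1 f hf
    have h2 := congrArg Subtype.val (LinearEquiv.congr_fun h1 (⟨f, hf⟩ : Fl ε i j R))
    exact h2
  · intro h1
    ext f : 2
    exact h1 _ f.2

/-- elements fixing the conjugates of `λ` -/
theorem mem_ker_of {x : R} (h1 : ∀ g ∈ R, cjf (x : G) (cjf g (lam ε i j)) = cjf g (lam ε i j)) :
    x ∈ (rep ε i j R).ker := by
  rw [h.mem_ker]
  intro f hf
  unfold Fl at hf
  induction hf using Submodule.span_induction with
  | mem y hy =>
    obtain ⟨g, hg, rfl⟩ := hy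
    exact h1 g hg
  | zero => rw [map_zero]
  | add a b _ _ ha hb => rw [map_add, ha, hb]
  | smul c a _ ha => rw [map_smul, ha]

theorem pCore_le : pCore 2 R ≤ (rep ε i j R).ker := by
  intro x hx
  refine h.mem_ker_of fun g hg => ?_
  have hxo : (x : G) ∈ o2 R := ⟨x, hx, rfl⟩
  have h2 : g⁻¹ * (x : G) * g ∈ o2 R := by
    have := (mem_normalizer_iff.1 (le_normalizer_o2 _ (inv_mem hg)) _).1 hxo
    rwa [inv_inv] at this
  have h3 := h.fix (h.KT h2)
  rw [← cjf_mul]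
  have h4 : (x : G) * g = g * (g⁻¹ * x * g) := by group
  rw [h4, cjf_mul, h3]

theorem ne_top : (rep ε i j R).ker ⊔ (h.SR : Subgroup R) ≠ ⊤ := by
  intro htop
  apply h.mv
  intro g hg
  rw [← cjf_lam_iff (h.RN hg)]
  have h1 : (⟨g, hg⟩ : R) ∈ (rep ε i j R).ker ⊔ (h.SR : Subgroup R) := by rw [htop]; exact mem_top _
  obtain ⟨y, hy, s, hs, e⟩ := mem_sup_of_normal_left.1 h1
  have h2 : g = (y : G) * s := (congrArg Subtype.val e).symm
  have h3 : cjf (s : G) (lam ε i j) = lam ε i j := h.fix hs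
  rw [h2, cjf_mul, h3]
  exact h.mem_ker.1 hy _ (lam_mem R)

theorem rhyp {M : Subgroup R} (hM : IsMin (h.SR : Subgroup R) M) : RHyp (rep ε i j R) h.SR M where
  min := hM
  ker := h.pCore_le
  ne := h.ne_top

/-- `C_T(Fl) ≤ O₂(R)` -/
theorem mem_o2_of_ker {s : G} (hs : s ∈ T) (h1 : ∀ f ∈ Fl ε i j R, cjf s f = f) : s ∈ o2 R := by
  have : Fact (Nat.Prime 2) := ⟨Nat.prime_two⟩
  obtain ⟨M, hM⟩ := h.exists_isMin
  rcases MinSimple.MinParabolic.sup_eq_top_or_inf_le hM (rep ε i j R).ker with h2 | h2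
  · exact absurd h2 h.ne_top
  · have h3 : (⟨s, h.min.le hs⟩ : R) ∈ (h.SR : Subgroup R) ⊓ (rep ε i j R).ker :=
      mem_inf.2 ⟨hs, h.mem_ker.2 h1⟩
    exact ⟨_, h2 h3, rfl⟩

/-- the centre -/
noncomputable def c0 (ε : (Fin n → ZMod 2) → G) (i j : Fin n) (R : Subgroup G) : Fl ε i j R := ⟨lam ε i j, lam_mem R⟩

/-- the functional of `t` -/
noncomputable def f0 {R : Subgroup G} (t : R) (q0 : G) : Fl ε i j R →ₗ[ZMod 2] ZMod 2 :=
  (LinearMap.proj q0 : (G → ZMod 2) →ₗ[ZMod 2] ZMod 2).comp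
    ((Submodule.subtype _).comp ((rep ε i j R t : Fl ε i j R →ₗ[ZMod 2] Fl ε i j R) - LinearMap.id))

omit h in
theorem f0_apply {R : Subgroup G} (t : R) (q0 : G) (f : Fl ε i j R) :
    f0 t q0 f = cjf (t : G) (f : G → ZMod 2) q0 - (f : G → ZMod 2) q0 := rfl

theorem exists_q0 : ∃ q0 ∈ o2 (NN ε i j), Acts ε q0 (Equiv.swap i j) := by
  obtain ⟨w, hw, hwa⟩ := h.hyp.exists_w h.ij
  exact ⟨w, h.hyp.W2_leQ h.ij hw, hwa⟩

theorem not_K {q : G} (hq : Acts ε q (Equiv.swap i j)) : ¬ q ∈ KK ε := by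
  intro h2
  have h3 := h.hyp.ev.acts_unique h.hyp.n3 hq (mem_KK.1 h2)
  have h4 := congrArg (fun σ : Equiv.Perm (Fin n) => σ i) h3
  simp only [Equiv.Perm.one_apply, Equiv.swap_apply_left] at h4
  exact h.ij h4.symm

/-- `t` acts as a transvection with centre `λ` -/
theorem act {k : Fin n} (hki : k ≠ i) (hkj : k ≠ j) {t : G} (ht : t ∈ UU ε i k) {q0 : G}
    (hq0 : q0 ∈ o2 (NN ε i j)) (hq0a : Acts ε q0 (Equiv.swap i j)) {f : G → ZMod 2} (hf : f ∈ Fl ε i j R) :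
    cjf t f = f + (cjf t f q0 - f q0) • lam ε i j := by
  have htN : t ∈ NN ε i j := KK_le_NN i j (h.hyp.UK hki.symm ht)
  have htT : t ∈ T := h.XT (mem_XX hki hkj ht)
  have hcf : cjf t f ∈ Fl ε i j R := Fl_inv (h.min.le htT) f hf
  obtain ⟨p1, p2⟩ := h.Fl_prop (sub_mem hcf hf)
  have hd : ∀ q, (cjf t f - f) q = cjf t f q - f q := fun q => rfl
  funext q
  rw [Pi.add_apply, Pi.smul_apply, smul_eq_mul]
  have goal : (cjf t f - f) q = (cjf t f - f) q0 * lam ε i j q := by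
    by_cases hq : q ∈ o2 (NN ε i j)
    · by_cases hK : q ∈ KK ε
      · rw [lam_K hK, mul_zero, hd, cjf_apply, h.Fl_ker hki hkj ht hf hq hK, sub_self]
      · rw [lam_one hq hK, mul_one]
        have h1 : Acts ε q (Equiv.swap i j) := (h.hyp.QA h.ij hq).resolve_left fun h1 => hK (mem_KK.2 h1)
        have h2 : q * q0⁻¹ ∈ KK ε := by
          have h3 := h1.mul hq0a.inv
          rw [Equiv.swap_inv, Equiv.swap_mul_self] at h3
          exact mem_KK.2 h3
        have h3 : q * q0⁻¹ ∈ o2 (NN ε i j) := mul_mem hq (inv_mem hq0)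
        have h4 := p2 _ h3 _ hq0
        rw [inv_mul_cancel_right] at h4
        rw [h4, hd (q * q0⁻¹), cjf_apply, h.Fl_ker hki hkj ht hf h3 h2, sub_self, zero_add]
    · rw [p1 q hq, lam_off hq, mul_zero]
  rw [hd, hd] at goal
  rw [← goal]
  ring

theorem isTr {k : Fin n} (hki : k ≠ i) (hkj : k ≠ j) {t : G} (ht : t ∈ UU ε i k) (htK : ¬ t ∈ o2 R)
    {q0 : G} (hq0 : q0 ∈ o2 (NN ε i j)) (hq0a : Acts ε q0 (Equiv.swap i j)) :
    IsTr (rep ε i j R) (⟨t, h.min.le (h.XT (mem_XX hki hkj ht))⟩ : R) (c0 ε i j R)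
      (f0 ⟨t, h.min.le (h.XT (mem_XX hki hkj ht))⟩ q0) where
  fc := by
    rw [f0_apply]
    change cjf t (lam ε i j) q0 - lam ε i j q0 = 0
    rw [h.fix (h.XT (mem_XX hki hkj ht)), sub_self]
  c_ne := by
    intro h1
    have h2 := congrFun (congrArg Subtype.val h1) q0
    change lam ε i j q0 = 0 at h2
    rw [lam_one hq0 (h.not_K hq0a)] at h2
    exact one_ne_zero h2
  f_ne := by
    intro h1
    apply htK
    refine h.mem_o2_of_ker (h.XT (mem_XX hki hkj ht)) fun f hf => ?_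
    have h2 := LinearMap.congr_fun h1 (⟨f, hf⟩ : Fl ε i j R)
    rw [f0_apply] at h2
    change cjf t f q0 - f q0 = 0 at h2
    rw [h.act hki hkj ht hq0 hq0a hf, h2, zero_smul, add_zero]
  act := by
    intro v
    apply Subtype.ext
    exact h.act hki hkj ht hq0 hq0a v.2

theorem span_eq : Submodule.span (ZMod 2) (Set.range fun x : R => rep ε i j R x (c0 ε i j R)) = ⊤ := by
  apply Submodule.map_injective_of_injective (f := (Fl ε i j R).subtype) (Submodule.subtype_injective _)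
  rw [Submodule.map_span, Submodule.map_top, Submodule.range_subtype]
  unfold Fl
  congr 1
  ext f
  constructor
  · rintro ⟨_, ⟨x, rfl⟩, rfl⟩
    exact ⟨x, x.2, rfl⟩
  · rintro ⟨g, hg, rfl⟩
    exact ⟨_, ⟨⟨g, hg⟩, rfl⟩, rfl⟩

/-- **`T = O₂(R) ∪ t O₂(R)`** -/
theorem two_cosets {k : Fin n} (hki : k ≠ i) (hkj : k ≠ j) {t : G} (ht : t ∈ UU ε i k) (htK : ¬ t ∈ o2 R)
    {s : G} (hs : s ∈ T) : s ∈ o2 R ∨ t⁻¹ * s ∈ o2 R := by
  obtain ⟨q0, hq0, hq0a⟩ := h.exists_q0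
  obtain ⟨M, hM⟩ := h.exists_isMin
  have htT : t ∈ T := h.XT (mem_XX hki hkj ht)
  rcases KeyRep.two_of (h.rhyp hM) (t := ⟨t, h.min.le htT⟩) htT (h.isTr hki hkj ht htK hq0 hq0a)
    (fun s hs => Subtype.ext (h.fix hs)) h.span_eq (s := ⟨s, h.min.le hs⟩) hs with h1 | h1
  · left
    exact h.mem_o2_of_ker hs fun f hf => congrArg Subtype.val (h1 ⟨f, hf⟩)
  · right
    refine h.mem_o2_of_ker (mul_mem (inv_mem htT) hs) fun f hf => ?_
    have h2 : cjf s f = cjf t f := congrArg Subtype.val (h1 ⟨f, hf⟩)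
    rw [cjf_mul, h2, ← cjf_mul, inv_mul_cancel, cjf_one]

/-! ### (b) -/

/-- `C_V(T) ≤ U_ij` -/
theorem mem_UU_of_cent {v : G} (hv : v ∈ V) (hT : ∀ t ∈ T, t * v = v * t) : v ∈ UU ε i j := by
  obtain ⟨q0, hq0, hq0a⟩ := h.exists_q0
  obtain ⟨x, rfl⟩ := h.hyp.ev.surj v hv
  have h1 := hq0a x
  rw [hT q0 (h.QT hq0), mul_inv_cancel_right, h.hyp.ev.eq_iff] at h1
  refine (h.hyp.eU h.ij x).2 ?_
  rcases h1 with h1 | h1
  · have h2 := congrFun h1 i
    rw [Function.comp_apply, Equiv.symm_swap, Equiv.swap_apply_left] at h2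
    exact h2
  · exfalso
    obtain ⟨m, h3, h4, -, -⟩ := exists_fifth h.hyp.n5 i j i j
    have h5 := congrFun h1 m
    rw [Pi.add_apply, Function.comp_apply, Equiv.symm_swap, Equiv.swap_apply_of_ne_of_ne h3 h4,
      Pi.one_apply] at h5
    exact one_ne_zero (left_eq_add.1 h5)

/-- `K = O₂(R)` centralises the `R`-conjugates of the elements of `C_V(T)` -/
theorem K_comm {v : G} (hT : ∀ t ∈ T, t * v = v * t) {r k : G} (hr : r ∈ R) (hk : k ∈ o2 R) :
    k * (r * v * r⁻¹) = r * v * r⁻¹ * k := by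
  have h1 : r⁻¹ * k * r ∈ o2 R := by
    have := (mem_normalizer_iff.1 (le_normalizer_o2 _ (inv_mem hr)) _).1 hk
    rwa [inv_inv] at this
  have h2 := hT _ (h.KT h1)
  calc k * (r * v * r⁻¹) = r * (r⁻¹ * k * r * v) * r⁻¹ := by group
    _ = r * (v * (r⁻¹ * k * r)) * r⁻¹ := by rw [h2]
    _ = r * v * r⁻¹ * k := by group

/-- `T` centralises the `R`-conjugates of the elements of `C_V(T)` -/
theorem T_comm {v : G} (hv : v ∈ V) (hT : ∀ t ∈ T, t * v = v * t) {r s : G} (hr : r ∈ R) (hs : s ∈ T) :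
    s * (r * v * r⁻¹) = r * v * r⁻¹ * s := by
  obtain ⟨k, hki, hkj, t, ht, htK⟩ := h.exists_t
  have htT : t ∈ T := h.XT (mem_XX hki hkj ht)
  have htN : t ∈ NN ε i j := h.TN htT
  have hvU := h.mem_UU_of_cent hv hT
  set y := r * v * r⁻¹ with hy
  have hyU : y ∈ UU ε i j := UU_normal (h.RN hr) hvU
  have hK : ∀ {a : G}, a ∈ o2 R → cm y a = 1 := by
    intro a ha
    rw [Di.cm_one_iff]
    exact (h.K_comm hT hr ha).symm
  have hcos : ∀ {a : G}, a ∈ T → cm y a = 1 ∨ cm y a = cm y t := by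
    intro a ha
    rcases h.two_cosets hki hkj ht htK ha with h1 | h1
    · exact Or.inl (hK h1)
    · right
      have h2 := h.K_comm hT hr h1
      rw [← hy] at h2
      have h3 : a = t * (t⁻¹ * a) := by group
      rw [h3]
      unfold cm
      calc y * (t * (t⁻¹ * a)) * y⁻¹ * (t * (t⁻¹ * a))⁻¹
          = y * t * (t⁻¹ * a * y⁻¹) * (t⁻¹ * a)⁻¹ * t⁻¹ := by group
        _ = y * t * (y⁻¹ * (t⁻¹ * a)) * (t⁻¹ * a)⁻¹ * t⁻¹ := by
            have h4 : t⁻¹ * a * y⁻¹ = y⁻¹ * (t⁻¹ * a) := by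
              have h5 : Commute (t⁻¹ * a) y := h2
              exact h5.inv_right
            rw [h4]
        _ = y * t * y⁻¹ * t⁻¹ := by group
  have hrho : cm y t ∈ UU ε i j := by
    have h1 : cm y t = y * (t * y⁻¹ * t⁻¹) := by unfold cm; group
    rw [h1]
    exact mul_mem hyU (UU_normal htN (inv_mem hyU))
  obtain ⟨x, hx⟩ := one_of h.hyp h.ij y hyU _ hrho fun k' hk'i hk'j a ha =>
    hcos (h.XT (mem_XX hk'i hk'j ha))
  have h1 : cm y t = 1 := by
    rw [Di.cm_one_iff, hx]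
    exact (mem_KK'.1 (h.hyp.UK hki.symm ht) x).symm
  rcases hcos hs with h2 | h2
  · exact (Di.cm_one_iff.1 h2).symm
  · rw [h1] at h2
    exact (Di.cm_one_iff.1 h2).symm

/-- **`R` centralises `C_V(T)`** -/
theorem cent {v : G} (hv : v ∈ V) (hT : ∀ t ∈ T, t * v = v * t) {r : G} (hr : r ∈ R) : r * v = v * r := by
  have : Fact (Nat.Prime 2) := ⟨Nat.prime_two⟩
  let N : Subgroup G :=
    { carrier := {g | g ∈ R ∧ ∀ r ∈ R, g * (r * v * r⁻¹) = r * v * r⁻¹ * g}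
      one_mem' := ⟨one_mem _, fun r _ => by rw [one_mul, mul_one]⟩
      mul_mem' := by
        rintro a b ⟨ha, ha'⟩ ⟨hb, hb'⟩
        refine ⟨mul_mem ha hb, fun r hr => ?_⟩
        rw [mul_assoc, hb' r hr, ← mul_assoc, ha' r hr, mul_assoc]
      inv_mem' := by
        rintro a ⟨ha, ha'⟩
        refine ⟨inv_mem ha, fun r hr => ?_⟩
        have h1 : Commute a (r * v * r⁻¹) := ha' r hr
        exact h1.inv_left }
  have hNR : N ≤ R := fun g hg => hg.1
  have hTN : T ≤ N := fun s hs => ⟨h.min.le hs, fun r hr => h.T_comm hv hT hr hs⟩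
  have hn : R ≤ normalizer (N : Set G) := by
    intro x hx
    refine DiCoreAbs.mem_norm_of fun g hg => ⟨mul_mem (mul_mem hx hg.1) (inv_mem hx), fun r hr => ?_⟩
    have h1 := hg.2 (x⁻¹ * r) (mul_mem (inv_mem hx) hr)
    calc x * g * x⁻¹ * (r * v * r⁻¹) = x * (g * (x⁻¹ * r * v * (x⁻¹ * r)⁻¹)) * x⁻¹ := by group
      _ = x * (x⁻¹ * r * v * (x⁻¹ * r)⁻¹ * g) * x⁻¹ := by rw [h1]
      _ = r * v * r⁻¹ * (x * g * x⁻¹) := by group
  rcases h.min.sup_eq_or_inf_le h.two h.syl hNR hn with h1 | h1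
  · have h2 : r ∈ N ⊔ T := by rw [h1]; exact hr
    have h3 : r ∈ N := by rwa [sup_eq_left.2 hTN] at h2
    have h4 := h3.2 1 (one_mem _)
    rwa [one_mul, inv_one, mul_one] at h4
  · exfalso
    rw [inf_eq_left.2 hTN] at h1
    have h2 : o2 R = T := le_antisymm h.KT h1
    apply h.min.not_le
    rw [← h2]
    exact le_normalizer_o2 R

end Ki

/-! ### The KEY LEMMA -/

/-- the setting in `C_G(D)` -/
theorem ki_of [Finite G] (h : Engine.Hyp V P ε) (hij : i ≠ j) (hL : EvenSet n V (normalizer (V : Set G)) ε)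
    (hcut : NN ε i j ⊓ normalizer (V0 ε i j : Set G) ≤ normalizer (V : Set G)) {D T R : Subgroup G}
    (hrD : rr ε i j ∈ D) (hD : D ≤ UU ε i j) (hTV : T ≤ normalizer (V : Set G)) (hXT : XX ε i j ≤ T)
    (hTs : Syl T (centralizer (D : Set G))) (hR : IsMinPar T R) (hRD : R ≤ centralizer (D : Set G))
    (hmv : ∃ g ∈ R, ∃ q ∈ o2 (NN ε i j), q ∈ KK ε ∧ ¬ g * q * g⁻¹ ∈ KK ε)
    (hcomm : ∀ g ∈ R, ∀ v ∈ V, ∀ w ∈ V, g * v * g⁻¹ * w = w * (g * v * g⁻¹)) : Ki V P ε i j T R := by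
  have : Fact (Nat.Prime 2) := ⟨Nat.prime_two⟩
  have hDN : centralizer (D : Set G) ≤ NN ε i j := fun g hg =>
    mem_NN.2 (mem_centralizer_iff.1 hg _ hrD).symm
  have hRN : R ≤ NN ε i j := hRD.trans hDN
  have hT2 : IsPGroup 2 T := hTs.2.1
  have hTD : ¬ 2 ∣ T.relIndex (centralizer (D : Set G)) := ZN.ChoiceSit.syl_not_dvd hTs
  have hTR : ¬ 2 ∣ T.relIndex R := fun h1 => hTD (by
    rw [← relIndex_mul_relIndex T R _ hR.le hRD]
    exact h1.mul_right _)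
  have hTN : T ≤ NN ε i j := hR.le.trans hRN
  have hKT : o2 R ≤ T := MinSimple.VModule.o2_le_of_sylow hT2 hTR
  have hQD : o2 (NN ε i j) ≤ centralizer (D : Set G) := by
    intro q hq
    rw [mem_centralizer_iff]
    intro d hd
    exact (h.UQc hij hq (hD hd)).symm
  have hQT : o2 (NN ε i j) ≤ T :=
    (le_o2 hQD (o2_isPGroup _) (hDN.trans (le_normalizer_o2 _))).trans
      (MinSimple.VModule.o2_le_of_sylow hT2 hTD)
  have hfix : ∀ g ∈ NN ε i j, g ∈ normalizer (V : Set G) → g ∈ normalizer (Q0 ε i j : Set G) := by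
    intro g hg hgV
    obtain ⟨σ, hσ⟩ := hL.perm g hgV
    exact fix_of_acts hσ hg
  have hmv' : ¬ R ≤ normalizer (Q0 ε i j : Set G) := (mv_iff hRN).1 hmv
  refine ⟨h, hij, hT2, hR, hTR, hRN, hQT, fun s hs => hfix s (hTN hs) (hTV hs), hXT, fun hXK => ?_,
    hcomm, hmv'⟩
  apply hmv'
  intro g hg
  refine hfix g (hRN hg) (hcut ⟨hRN hg, ?_⟩)
  refine lem2 h hL hij (one_of h hij) hcut (hRN hg) fun x hx => ?_
  have h1 : g⁻¹ * x * g ∈ o2 R := by
    have := (mem_normalizer_iff.1 (le_normalizer_o2 _ (inv_mem hg)) _).1 (hXK hx)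
    rwa [inv_inv] at this
  have h2 : g⁻¹ * x * g ∈ T := hKT h1
  obtain ⟨σ, hσ⟩ := hL.perm _ (hTV h2)
  exact norm_V0 h hσ fun k hki hkj => pair_of h.ev h.n5 hij hσ (hTN h2) hki hkj

/-- **The KEY LEMMA** (#18920 (3)) -/
theorem key [Finite G] (h : Engine.Hyp V P ε) (hij : i ≠ j) (hL : EvenSet n V (normalizer (V : Set G)) ε)
    (hcut : NN ε i j ⊓ normalizer (V0 ε i j : Set G) ≤ normalizer (V : Set G)) {D T R : Subgroup G}
    (hrD : rr ε i j ∈ D) (hD : D ≤ UU ε i j) (hTV : T ≤ normalizer (V : Set G)) (hXT : XX ε i j ≤ T)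
    (hTs : Syl T (centralizer (D : Set G))) (hR : IsMinPar T R) (hRD : R ≤ centralizer (D : Set G))
    (hmv : ∃ g ∈ R, ∃ q ∈ o2 (NN ε i j), q ∈ KK ε ∧ ¬ g * q * g⁻¹ ∈ KK ε)
    (hcomm : ∀ g ∈ R, ∀ v ∈ V, ∀ w ∈ V, g * v * g⁻¹ * w = w * (g * v * g⁻¹)) :
    (∃ t ∈ XX ε i j, ¬ t ∈ o2 R) ∧ (∀ s ∈ T, ∀ t ∈ T, ¬ s ∈ o2 R → ¬ t ∈ o2 R → s * t⁻¹ ∈ o2 R) ∧
      ∀ v ∈ V, (∀ t ∈ T, t * v = v * t) → ∀ r ∈ R, r * v = v * r := by
  have hk := ki_of h hij hL hcut hrD hD hTV hXT hTs hR hRD hmv hcomm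
  obtain ⟨k, hki, hkj, t0, ht0, ht0K⟩ := hk.exists_t
  refine ⟨⟨t0, mem_XX hki hkj ht0, ht0K⟩, fun s hs t ht hsK htK => ?_, fun v hv hT r hr => hk.cent hv hT hr⟩
  have h1 := (hk.two_cosets hki hkj ht0 ht0K hs).resolve_left hsK
  have h2 := (hk.two_cosets hki hkj ht0 ht0K ht).resolve_left htK
  have h3 : s * t⁻¹ = t0 * (t0⁻¹ * s * (t0⁻¹ * t)⁻¹) * t0⁻¹ := by group
  rw [h3]
  have ht0R : t0 ∈ R := hk.min.le (hk.XT (mem_XX hki hkj ht0))
  exact (mem_normalizer_iff.1 (le_normalizer_o2 _ ht0R) _).1 (mul_mem h1 (inv_mem h2))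

end Cfsg.Agent.Omega.NSix.HT.Key
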