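import Cfsg.Agent.Mrg.Omega.NSix.HT.Four
import Cfsg.Agent.Mrg.Omega.NSix.HT.Key
import Cfsg.Agent.Mrg.Omega.NSix.HTwo.Main
import Cfsg.Agent.Mrg.Omega.NSix.NoBlk.Sym
import Cfsg.Agent.Mrg.Omega.NSix.HTwo.StepC
import Cfsg.Agent.Mrg.Omega.NSix.HT.EightIn
import Cfsg.Agent.Mrg.Omega.FFBr.Final
import Cfsg.Agent.Mrg.Omega.S5.NatBig
import Mathlib
import Cfsg.Agent.Mrg.Omega.NSix.CaseJ.PBlock
import Cfsg.Agent.Mrg.Omega.NTwo.Zero
import Cfsg.Agent.Mrg.Omega.TTn.BOne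

section


/-!
# OMEGA N6: (H2) without (ML) and THEOREM SN: #18920 (helper605), the assembly

`Pos S P ε`, `S` induces `(i j)`, `N = C_G(r_ij)`, `T₁ = S ∩ N`, `λ : O₂(N) → F₂` with kernel `Q0 ε i j`.

* `key_of` : (3) = `Four.Key`; `key_five` : (3) for `D = ⟨r_ij⟩`; `bl` : THEOREM BL* (case `J(S) ≤ O₂(P)`);
* `pos_false` : `Pos` is contradictory; `symH2 : SymH2 K` = (H2) of N6; `symBig : S5.Main.SymBig K` (leaf II.c),
  for every class `K`, no hypotheses. FF theorem: `FFBr.ffthm`; case `J(S) ≰ O₂(P)`: 546's `EightIn.eight`.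
-/

set_option autoImplicit false
set_option linter.unusedSectionVars false

namespace Cfsg.Agent.Omega.NSix.HT.Main

open Subgroup Cfsg Cfsg.Agent.Omega.MinPar
open Cfsg.Agent.ZN (o2 zc zl jj)
open Cfsg.Agent.ZN.ChoiceSit (Syl)
open Cfsg.Agent.MinSimple.VModule (o2_le o2_isPGroup le_normalizer_o2 le_o2 mem_zc oddGen)
open Cfsg.Agent.Omega.S5.Def Cfsg.Agent.Omega.S5.Syl
open Cfsg.Agent.Omega.NSix.Base Cfsg.Agent.Omega.NSix.Basic Cfsg.Agent.Omega.NSix.Engine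
open Cfsg.Agent.Omega.NSix.CosetAct (V0 mem_V0)
open Cfsg.Agent.Omega.NSix.HTwo.LemTwo (XX In V0_le V0_le_UU)
open Cfsg.Agent.Omega.NSix.HTwo.Main (Pos)
open Cfsg.Agent.Omega.NSix.HTwo.StepC (sy_of nc_of in_of)
open Cfsg.Agent.Omega.NSix.HT.Five (Q0)
open Cfsg.Agent.Omega.Frame (Ctx Cls)
open Cfsg.Agent.MinSimple.MinParabolic (IsMinPar)
open Cfsg.Agent.Omega.S5.SymBig (H2 Pr SymH2)
open Cfsg.Agent.Omega

universe u

section

variable {G : Type u} [Group G] [Finite G] {m : ℕ} {S : Sylow 2 G} {V P : Subgroup G}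
  {ε : (Fin (2 ^ m + 1) → ZMod 2) → G} {i j : Fin (2 ^ m + 1)}

/-- (3) in the form used in (4) -/
theorem key_of (h : In S V P ε i j) : Four.Key V ε i j := by
  intro D T R hD hr hT hR hRD hmv hcomm
  have hDV : D ≤ V := hD.trans (V0_le h.hyp)
  have hRN : R ≤ NN ε i j := hRD.trans (centralizer_le_NN h hr)
  obtain ⟨⟨t, ht, hto⟩, h2, h3⟩ := Key.key h.hyp h.ij h.evL h.cut hr (hD.trans V0_le_UU)
    (hT.1.trans inf_le_right) (XX_le_syl h hDV hT) (syl_D h hDV hr hT) hR hRD ((Five.mv_iff hRN).2 hmv)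
    fun g hg v hv w hw => by
      have h1 := hcomm g hg 1 (one_mem _) v hv w hw
      simpa using h1
  refine ⟨fun t ht s hs htK hsK => ?_, fun hX => hto (hX ht), h3⟩
  have h4 := h2 t⁻¹ (inv_mem ht) s⁻¹ (inv_mem hs) (fun h5 => htK (inv_mem_iff.1 h5))
    fun h5 => hsK (inv_mem_iff.1 h5)
  rwa [inv_inv] at h4

/-- (3) for `D = ⟨r_ij⟩` -/
theorem key_five (h : In S V P ε i j) {R : Subgroup G} (hR : IsMinPar ((S : Subgroup G) ⊓ NN ε i j) R)
    (hRN : R ≤ NN ε i j) (hmv : ¬ R ≤ normalizer (Q0 ε i j : Set G))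
    (hcomm : ∀ g ∈ R, ∀ g' ∈ R, ∀ v ∈ V, ∀ w ∈ V,
      g * v * g⁻¹ * (g' * w * g'⁻¹) = g' * w * g'⁻¹ * (g * v * g⁻¹)) :
    ∀ v ∈ V, (∀ t ∈ (S : Subgroup G) ⊓ NN ε i j, t * v = v * t) → ∀ r ∈ R, r * v = v * r := by
  have hC : centralizer ((zpowers (rr ε i j) : Subgroup G) : Set G) = NN ε i j := by
    rw [zpowers_eq_closure, centralizer_closure]
    rfl
  have h1 := Key.key h.hyp h.ij h.evL h.cut (D := zpowers (rr ε i j)) (T := (S : Subgroup G) ⊓ NN ε i j)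
    (mem_zpowers _) (zpowers_le.2 (h.hyp.rr_mem_U h.ij)) (inf_le_left.trans h.SL) h.XX_le_T
    (by rw [hC]; exact h.syl) hR (by rw [hC]; exact hRN) ((Five.mv_iff hRN).2 hmv)
    fun g hg v hv w hw => by
      have h1 := hcomm g hg 1 (one_mem _) v hv w hw
      simpa using h1
  exact h1.2.2

/-- THEOREM BL* -/
theorem bl (hFF : FFThm.Stmt.{u}) (hG : IsCharacteristicTwoType G) (hP : IsParS (S : Subgroup G) P)
    (h : In S (zl (S : Subgroup G) P) P ε i j) (hJ : jj (S : Subgroup G) ≤ o2 P) {R : Subgroup G}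
    (hR : IsMinPar ((S : Subgroup G) ⊓ NN ε i j) R) (hRN : R ≤ NN ε i j)
    (hJR : ¬ jj (S : Subgroup G) ≤ o2 R) : R ≤ centralizer ({zz ε 0} : Set G) := by
  set T := (S : Subgroup G) ⊓ NN ε i j with hTdef
  have hTR : T ≤ R := hR.le
  have hT : Syl T R := by
    obtain ⟨h1, h2, h3⟩ := h.syl
    exact ⟨hTR, h2, fun Q hQR hQ hTQ => h3 Q (hQR.trans hRN) hQ hTQ⟩
  have hcN : NN ε i j ⊓ centralizer (o2 (NN ε i j) : Set G) ≤ o2 (NN ε i j) :=
    MinSimple.Basic.char2_centralizer hG (by rw [pow_two]; exact rr_sq h.hyp.ev i j)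
      (rr_ne_one h.hyp.ev h.three h.ij)
  have hO : OmegaOne.Hyp (zl (S : Subgroup G) P) P S ε := by
    refine ⟨h.hyp.ev, hP.le, MinSimple.VModule.zc_le_zl _ _, h.hyp.pair, h.hyp.le, ?_⟩
    obtain ⟨a, b, hab, g, hg, -, hgV⟩ := h.hyp.mov
    exact ⟨a, b, hab, g, hg, hgV⟩
  have hinf := hP.inf_centralizer S hG
  have hQT : o2 P ≤ T := by
    intro q hq
    have h1 : q ∈ (S : Subgroup G) ⊓ centralizer (zl (S : Subgroup G) P : Set G) := by rw [hinf]; exact hq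
    exact ⟨h1.1, mem_NN.2 (mem_centralizer_iff.1 h1.2 _ (rr_mem h.hyp.ev i j)).symm⟩
  have hz : ∀ s ∈ (S : Subgroup G), s * zz ε 0 = zz ε 0 * s := by
    intro t ht
    obtain ⟨σ, hσ⟩ := h.hyp.ev.perm t (h.SP ht)
    have h1 := zz_conj hσ 0
    rw [h.fix0 t ht σ hσ] at h1
    exact mul_inv_eq_iff_eq_mul.1 h1
  have h1 : zc T ≤ centralizer (oddGen R : Set G) :=
    NoBlk.Main.cen_zc hFF (NoBlk.Main.dat_par hG hP h.hyp.ev (OmegaOne.zc_o2_par hG h.hyp.n5 hP hO) hJ)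
      (by have := h.hm; omega) hQT hT hR
      (HTwo.StepFour.char2_of hcN hRN (h.o2_le_T.trans hTR)) (rr_mem h.hyp.ev i j)
      (rr_ne_one h.hyp.ev h.three h.ij) hRN hJR
  have h2 : zz ε 0 ∈ zc T := HTwo.StepFour.zz_mem_zc hG hP h.hyp hz
  have h3 : oddGen R ⊔ T = R := TTn.DiCoreAbs.oddGen_sup hTR fun h4 => h.not_dvd (by
    rw [← relIndex_mul_relIndex _ R (NN ε i j) hTR hRN]
    exact h4.mul_right _)
  rw [← h3]
  refine sup_le (fun x hx => ?_) fun t ht => mem_centralizer_singleton_iff.2 (hz t ht.1)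
  exact mem_centralizer_singleton_iff.2 (mem_centralizer_iff.1 (h1 h2) x hx)

/-- `V ≤ Z(O₂(C_G(z_k)))`: the `C_G(z_k)`-conjugates of `V` commute -/
theorem comm_zz (h : Pos S P ε) (k : Fin (2 ^ m + 1)) {g g' : G} (hg : g ∈ centralizer ({zz ε k} : Set G))
    (hg' : g' ∈ centralizer ({zz ε k} : Set G)) : ∀ v ∈ zl (S : Subgroup G) P, ∀ w ∈ zl (S : Subgroup G) P,
      g * v * g⁻¹ * (g' * w * g'⁻¹) = g' * w * g'⁻¹ * (g * v * g⁻¹) := by
  have hV : zl (S : Subgroup G) P ≤ o2 (centralizer ({zz ε k} : Set G)) ⊓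
      centralizer (o2 (centralizer ({zz ε k} : Set G)) : Set G) := by
    refine le_inf (PtCen.le_o2_cent h.c2 S h.m3 h.hyp.ev h.par.le h.fix0 k) fun v hv => ?_
    refine mem_centralizer_iff.2 fun x hx => ?_
    exact (mem_centralizer_iff.1 (Fix.o2_le_cent S h.m3 h.hyp.ev h.par.le h.fix0 k hx) v hv).symm
  intro v hv w hw
  have h1 := Fix.conj_center (mem_centralizer_singleton_iff.1 hg) (hV hv)
  have h2 := Fix.conj_center (mem_centralizer_singleton_iff.1 hg') (hV hw)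
  exact mem_centralizer_iff.1 h2.2 _ h1.1

end

section

variable {G : Type u} [Group G] [Finite G] {m : ℕ} {S : Sylow 2 G} {P : Subgroup G}
  {ε : (Fin (2 ^ m + 1) → ZMod 2) → G}

/-- **#18920**: `Pos` is contradictory -/
theorem pos_false (h : Pos S P ε) : False := by
  obtain ⟨i, j, hij, hsw⟩ := PairCen.exists_swap_mem (by have := h.m3; omega) h.hyp.ev
    (MinSimple.Basic.not_dvd_relIndex S h.par.le)
  have hI := in_of h hij hsw
  obtain ⟨R, -, h1, h2, h3⟩ := Five.five hI h.c2 h.par (fun R hR hRN hmv hc => key_five hI hR hRN hmv hc)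
    (fun hJ R hR hRN hJR => bl FFBr.ffthm h.c2 h.par hI hJ hR hRN hJR)
    (fun hJ R hR hRN hRL => EightIn.eight FFBr.ffthm h.c2 h.par h.m3 h.hyp.ev h.fix0 hij hsw hJ R hR hRN hRL)
    (Fix.not_le_normalizer h hI)
  exact h3 ((le_inf h1 h2).trans (Four.four hI h.m3 (nc_of h) (key_of hI)
    fun g hg g' hg' => comm_zz h 0 hg hg'))

/-- **(H2)** of N6 -/
theorem symH2 {K : Cls.{u}} : SymH2 K := by
  intro G _ _ hG _ S _ _ _ _ _ P₁ P₂ y m m' ε ε₂ hm hm' hl _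
  by_contra hno
  exact pos_false (HTwo.Main.Pos.of (S5.SymBig.pr_of hG.char2 (by omega) hm' hl) hm hl.pair.star₁ hno)

/-- **the leaf II.c** -/
theorem symBig {K : Cls.{u}} : S5.Main.SymBig K := S5.SymBig.symBig_of symH2

end

end Cfsg.Agent.Omega.NSix.HT.Main

end

section


/-!
# `C_G(r_ij) ≤ N_G(V)` for a free member `S_{2^m+1}`, `m ≥ 3`, which is moved by some `WP ε i j` (partner-free)

(H2) fails: `HT.Main.pos_false` (helper605 and others).  (H2) holds: `Zero.sixL`, `EndL.SixL.nn_le`.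
-/

set_option autoImplicit false

namespace Cfsg.Agent.Omega.IId.SymMany

open Subgroup Cfsg Cfsg.Agent.Omega.MinPar
open Cfsg.Agent.ZN (o2 zc zl)
open Cfsg.Agent.Omega.Frame (Ctx Cls)
open Cfsg.Agent.Omega.S5.Def Cfsg.Agent.Omega.S5.Syl
open Cfsg.Agent.Omega.S5.NatBig (Facts)
open Cfsg.Agent.Omega.NSix.Base Cfsg.Agent.Omega.NSix.Basic
open Cfsg.Agent.Omega.NSix.Zero (WP)
open Cfsg.Agent.Omega.NSix.Engine (D4)

universe u

/-- **`C_G(r_ij) ≤ N_G(V)`** -/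
theorem nn_le {G : Type u} [Group G] [Finite G] (hG : IsCharacteristicTwoType G) (S : Sylow 2 G)
    {P : Subgroup G} (hP : IsParS (S : Subgroup G) P) {m : ℕ} (hm : 3 ≤ m) {ε : (Fin (2 ^ m + 1) → ZMod 2) → G}
    (ev : EvenSet (2 ^ m + 1) (zl (S : Subgroup G) P) P ε) (h0 : Fix0 ε (S : Subgroup G)) (Fa : Facts ε P)
    (mov : ∃ i j, i ≠ j ∧ ∃ g ∈ WP ε i j, g * g ∈ zpowers (rr ε i j) ∧
      ¬ g ∈ centralizer (zl (S : Subgroup G) P : Set G)) :
    ∀ i j, i ≠ j → NN ε i j ≤ normalizer (zl (S : Subgroup G) P : Set G) := by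
  have h5 : 5 ≤ 2 ^ m + 1 := five_le (by omega)
  have h7 : 7 ≤ 2 ^ m + 1 := by
    have : 2 ^ 3 ≤ 2 ^ m := Nat.pow_le_pow_right (by norm_num) hm
    omega
  have hodd : Odd (2 ^ m + 1) := Even.add_one (Nat.even_pow.mpr ⟨even_two, by omega⟩)
  have hZ : zc (S : Subgroup G) ≤ zl (S : Subgroup G) P := MinSimple.VModule.zc_le_zl _ _
  have hpair : ∀ i j k, i ≠ j → k ≠ i → k ≠ j → ∀ q ∈ o2 (NN ε i j), q * zz ε k = zz ε k * q :=
    fun i j k hij hki hkj q hq => Fa.pair i j hij k hki hkj q hq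
  have hH : NSix.Engine.Hyp (zl (S : Subgroup G) P) P ε :=
    NSix.Engine.Hyp.of hG h5 hodd ev S hP.le hZ hpair Fa.le mov
  by_cases hcom : ∃ i j k l, D4 i j k l ∧ ∀ u ∈ UU ε i j, ∀ y ∈ UU ε k l, u * y = y * u
  · obtain ⟨a, b, c, d, hD, hc⟩ := hcom
    have h6 := NSix.Zero.sixL hG hm ev S hP.le h0 hZ hpair Fa.le
      (fun i j k l hij hkl hik hil hjk hjl => hH.hq_of_comm
        (fun {_ _ _ _} hD' => hH.comm_transfer hD hD' hc) ⟨hij, hik, hil, hjk, hjl, hkl⟩)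
      (by obtain ⟨i, j, hij, g, hg, -, hgV⟩ := mov; exact ⟨i, j, hij, g, hg, hgV⟩)
    exact fun i j hij => h6.nn_le hodd h7 hij
  · exfalso
    push Not at hcom
    have hpos : NSix.HTwo.Main.Pos S P ε := ⟨hG, hm, hP, hH, h0, fun i j k l hD hc => by
      obtain ⟨u, hu, y, hy, hne⟩ := hcom i j k l hD
      exact hne (hc u hu y hy)⟩
    exact NSix.HT.Main.pos_false hpos

end Cfsg.Agent.Omega.IId.SymMany

end

section


/-!
# A 2-group of permutations normalised by `Sym(B) × Sym(Bᶜ)`, `|Bᶜ|` odd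

`x : Fin n → ZMod 2` (the characteristic function of `B`, `∑ x = 0`, `n` odd), `H` a group of permutations fixing `x`,
all elements of 2-power order, normalised by the transpositions `(d e)`, `x d = x e`; `H ≠ 1`: then `|B| ≤ 4`.
-/

set_option autoImplicit false

namespace Cfsg.Agent.Omega.IId.SymMany

open Equiv

/-- the number of points of `x` -/
def wt {n : ℕ} (x : Fin n → ZMod 2) : ℕ := ∑ t, (x t).val

theorem z2c (x : ZMod 2) : x = 0 ∨ x = 1 := by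
  revert x
  decide

theorem wt_union {n : ℕ} (x y : Fin n → ZMod 2) :
    wt x + wt y + wt (x + y) = 2 * wt (x + y + x * y) := by
  have key : ∀ a b : ZMod 2, a.val + b.val + (a + b).val = 2 * (a + b + a * b).val := by decide
  unfold wt
  rw [← Finset.sum_add_distrib, ← Finset.sum_add_distrib, Finset.mul_sum]
  exact Finset.sum_congr rfl fun t _ => key _ _

theorem wt_add_one {n : ℕ} (x : Fin n → ZMod 2) : wt x + wt (x + 1) = n := by
  have key : ∀ a : ZMod 2, a.val + (a + 1).val = 1 := by decide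
  unfold wt
  rw [← Finset.sum_add_distrib]
  calc ∑ t, ((x t).val + ((x + 1) t).val) = ∑ _t : Fin n, 1 := Finset.sum_congr rfl fun t _ => key _
    _ = n := by simp

theorem wt_zero {n : ℕ} : wt (0 : Fin n → ZMod 2) = 0 := by
  unfold wt
  exact Finset.sum_eq_zero fun t _ => by simp

theorem wt_single_add {n : ℕ} {i j : Fin n} (hij : i ≠ j) :
    wt (Pi.single i 1 + Pi.single j 1 : Fin n → ZMod 2) = 2 := by
  classical
  have h1 : ∀ t, ((Pi.single i 1 + Pi.single j 1 : Fin n → ZMod 2) t).val =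
      (if t = i then 1 else 0) + if t = j then 1 else 0 := by
    intro t
    rw [Pi.add_apply]
    by_cases h : t = i
    · subst h
      rw [Pi.single_eq_same, Pi.single_eq_of_ne hij, if_pos rfl, if_neg hij]
      decide
    · rw [Pi.single_eq_of_ne h, if_neg h]
      by_cases h' : t = j
      · subst h'
        rw [Pi.single_eq_same, if_pos rfl]
        decide
      · rw [Pi.single_eq_of_ne h', if_neg h']
        decide
  unfold wt
  rw [Finset.sum_congr rfl fun t _ => h1 t, Finset.sum_add_distrib, Finset.sum_ite_eq', Finset.sum_ite_eq']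
  simp

/-- a nonzero even set has at least two points -/
theorem two_le_wt {n : ℕ} {x : Fin n → ZMod 2} (h0 : ∑ t, x t = 0) (hx : x ≠ 0) : 2 ≤ wt x := by
  have h1 : ((wt x : ℕ) : ZMod 2) = 0 := by
    unfold wt
    rw [Nat.cast_sum, ← h0]
    exact Finset.sum_congr rfl fun t _ => ZMod.natCast_zmod_val _
  have h2 : wt x ≠ 0 := by
    intro h
    apply hx
    funext t
    have h3 := (Finset.sum_eq_zero_iff.1 h) t (Finset.mem_univ t)
    exact (ZMod.val_eq_zero _).1 h3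
  have h3 : 2 ∣ wt x := (ZMod.natCast_eq_zero_iff _ _).1 h1
  omega

section lemC

variable {n : ℕ} {x : Fin n → ZMod 2} {H : Subgroup (Perm (Fin n))}

/-- the hypotheses -/
structure Hc (x : Fin n → ZMod 2) (H : Subgroup (Perm (Fin n))) : Prop where
  two : ∀ σ ∈ H, ∃ s : ℕ, σ ^ (2 ^ s) = 1
  fix : ∀ σ ∈ H, ∀ t, x (σ t) = x t
  norm : ∀ d e, x d = x e → ∀ σ ∈ H, swap d e * σ * swap d e ∈ H

variable (h : Hc x H)
include h

theorem Hc.mem {σ : Perm (Fin n)} (hσ : σ ∈ H) {d e : Fin n} (he : x d = x e) :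
    swap (σ d) (σ e) * swap d e ∈ H := by
  have h1 := H.mul_mem hσ (h.norm d e he σ⁻¹ (H.inv_mem hσ))
  have h2 : σ * (swap d e * σ⁻¹ * swap d e) = swap (σ d) (σ e) * swap d e := by
    rw [← mul_assoc, ← mul_assoc, ← Equiv.swap_apply_apply]
  rwa [h2] at h1

omit h in
/-- `(a b)(b c)` is no 2-element -/
theorem three_cycle {a b c : Fin n} (hab : a ≠ b) (hbc : b ≠ c) (hac : a ≠ c) (s : ℕ)
    (h1 : (swap a b * swap b c) ^ (2 ^ s) = 1) : False := by
  set ρ := swap a b * swap b c with hρ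
  have e1 : ρ a = b := by
    rw [hρ, Perm.mul_apply, swap_apply_of_ne_of_ne hab hac, swap_apply_left]
  have e2 : ρ b = c := by
    rw [hρ, Perm.mul_apply, swap_apply_left, swap_apply_of_ne_of_ne hac.symm hbc.symm]
  have e3 : ρ c = a := by
    rw [hρ, Perm.mul_apply, swap_apply_right, swap_apply_right]
  have h3 : ρ ^ 3 = 1 := by
    ext t
    rw [pow_succ, pow_two, Perm.mul_apply, Perm.mul_apply]
    by_cases ha : t = a
    · subst ha; rw [e1, e2, e3]; rfl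
    by_cases hb : t = b
    · subst hb; rw [e2, e3, e1]; rfl
    by_cases hc : t = c
    · subst hc; rw [e3, e1, e2]; rfl
    have e4 : ρ t = t := by
      rw [hρ, Perm.mul_apply, swap_apply_of_ne_of_ne hb hc, swap_apply_of_ne_of_ne ha hb]
    rw [e4, e4, e4]
    rfl
  have h4 : orderOf ρ ∣ 3 := orderOf_dvd_of_pow_eq_one h3
  have h5 : orderOf ρ ∣ 2 ^ s := orderOf_dvd_of_pow_eq_one h1
  have h6 : Nat.Coprime 3 (2 ^ s) := Nat.Coprime.pow_right s (by norm_num)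
  have h7 : orderOf ρ = 1 := Nat.eq_one_of_dvd_coprimes h6 h4 h5
  rw [orderOf_eq_one_iff] at h7
  rw [h7] at e1
  exact hab e1

/-- `σ² = 1` -/
theorem Hc.inv {σ : Perm (Fin n)} (hσ : σ ∈ H) {d : Fin n} (hd : σ d ≠ d) : σ (σ d) = d := by
  by_contra hne
  set e := σ d with he
  have h1 := h.mem hσ (d := d) (e := e) (h.fix σ hσ d).symm
  rw [← he, swap_comm e (σ e), swap_comm d e] at h1
  obtain ⟨s, hs⟩ := h.two _ h1
  exact three_cycle (fun h2 => hd (σ.injective (h2.trans he))) hd (fun h2 => hne h2) s hs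

/-- a moved point moves its class -/
theorem Hc.move {σ : Perm (Fin n)} (hσ : σ ∈ H) {d e : Fin n} (hd : σ d ≠ d) (hde : x d = x e) : σ e ≠ e := by
  intro hee
  have hne : d ≠ e := fun h1 => hd (by rw [h1]; exact hee)
  have hne2 : σ d ≠ e := fun h1 => hne (σ.injective (h1.trans hee.symm))
  have h1 := h.mem hσ hde
  rw [hee, swap_comm d e] at h1
  obtain ⟨s, hs⟩ := h.two _ h1
  exact three_cycle hne2 hne.symm hd s hs

/-- the points off `B` are fixed -/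
theorem Hc.fix0 (hn : Odd n) (h0 : ∑ t, x t = 0) {σ : Perm (Fin n)} (hσ : σ ∈ H) {d : Fin n} (hd : x d = 0) :
    σ d = d := by
  by_contra hne
  have h1 : ∀ e, x e = 0 → σ e ≠ e := fun e he => h.move hσ hne (hd.trans he.symm)
  -- the number of the points off `B` is odd
  have h2 : ∑ t ∈ Finset.univ.filter (fun t => x t = 0), (1 : ZMod 2) = 0 := by
    refine Finset.sum_involution (fun t _ => σ t) (fun t _ => by decide) (fun t ht _ => ?_) (fun t ht => ?_)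
      (fun t ht => ?_)
    · exact h1 t (Finset.mem_filter.1 ht).2
    · exact Finset.mem_filter.2 ⟨Finset.mem_univ _, (h.fix σ hσ t).trans (Finset.mem_filter.1 ht).2⟩
    · exact h.inv hσ (h1 t (Finset.mem_filter.1 ht).2)
  have h3 : ∑ t : Fin n, (x t + 1) = ∑ t ∈ Finset.univ.filter (fun t => x t = 0), (1 : ZMod 2) := by
    rw [Finset.sum_filter]
    refine Finset.sum_congr rfl fun t _ => ?_
    rcases z2c (x t) with h4 | h4
    · rw [h4, if_pos rfl]; decide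
    · rw [h4, if_neg (by decide)]; decide
  rw [h2, Finset.sum_add_distrib, h0, zero_add, Finset.sum_const, Finset.card_univ, Fintype.card_fin,
    nsmul_eq_mul, mul_one] at h3
  have h4 := (ZMod.natCast_eq_zero_iff _ _).1 h3
  obtain ⟨k, hk⟩ := hn
  omega

/-- **`|B| ≤ 4`** -/
theorem Hc.wt_le (hn : Odd n) (h0 : ∑ t, x t = 0) (hne : ∃ σ ∈ H, σ ≠ 1) : wt x ≤ 4 := by
  classical
  obtain ⟨σ, hσ, hσ1⟩ := hne
  obtain ⟨d, hd⟩ : ∃ d, σ d ≠ d := by
    by_contra hcon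
    push Not at hcon
    exact hσ1 (Equiv.ext hcon)
  have hd1 : x d = 1 := (z2c (x d)).resolve_left fun h1 => hd (h.fix0 hn h0 hσ h1)
  by_contra hw
  push Not at hw
  set B := Finset.univ.filter (fun t => x t = 1) with hB
  have hcard : B.card = wt x := by
    rw [hB, Finset.card_filter, wt]
    refine Finset.sum_congr rfl fun t _ => ?_
    rcases z2c (x t) with h4 | h4
    · rw [h4, if_neg (by decide)]; decide
    · rw [h4, if_pos rfl]; decide
  have hex : ∀ s : Finset (Fin n), s.card ≤ 4 → ∃ e ∈ B, e ∉ s := by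
    intro s hs
    by_contra hcon
    push Not at hcon
    have h1 := Finset.card_le_card (show B ⊆ s from fun t ht => hcon t ht)
    omega
  obtain ⟨e, heB, he⟩ := hex {d, σ d} (Finset.card_le_two.trans (by norm_num))
  rw [Finset.mem_insert, Finset.mem_singleton, not_or] at he
  obtain ⟨hed, heσ⟩ := he
  have he1 : x e = 1 := (Finset.mem_filter.1 heB).2
  have hmv : ∀ t, x t = 1 → σ t ≠ t := fun t ht => h.move hσ hd (hd1.trans ht.symm)
  have hρ := h.mem hσ (hd1.trans he1.symm)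
  set ρ := swap (σ d) (σ e) * swap d e with hρd
  have h1 : ρ d = e := by
    rw [hρd, Perm.mul_apply, swap_apply_left, swap_apply_of_ne_of_ne heσ (Ne.symm (hmv e he1))]
  obtain ⟨f, hfB, hf⟩ := hex {d, e, σ d, σ e} (Finset.card_le_four)
  simp only [Finset.mem_insert, Finset.mem_singleton, not_or] at hf
  obtain ⟨f1, f2, f3, f4⟩ := hf
  have h2 : ρ f = f := by
    rw [hρd, Perm.mul_apply, swap_apply_of_ne_of_ne f1 f2, swap_apply_of_ne_of_ne f3 f4]
  exact h.move hρ (d := d) (e := f) (by rw [h1]; exact hed) (hd1.trans (Finset.mem_filter.1 hfB).2.symm) h2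

end lemC

end Cfsg.Agent.Omega.IId.SymMany

end

section


/-!
# OMEGA N6, (H2) by #18920 (helper605): the input `bl` of (5)  (helper840)

`bl` : `J(S) ≤ O₂(P)`: the minimal parabolics `R` over `T₁ = C_S(r_ij)` in `C_G(r_ij)` with `J(S) ≰ O₂(R)` centralise
`Ω₁Z(T₁) ∋ z_0` (THEOREM BL*, helper107).
-/

set_option autoImplicit false
set_option linter.unusedSectionVars false

namespace Cfsg.Agent.Omega.NSix.HT.Bl

open Subgroup Cfsg Cfsg.Agent.Omega.MinPar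
open Cfsg.Agent.ZN (o2 zc zl jj)
open Cfsg.Agent.ZN.ChoiceSit (Syl)
open Cfsg.Agent.MinSimple.VModule (o2_le o2_isPGroup le_normalizer_o2 le_o2 mem_zc oddGen)
open Cfsg.Agent.Omega.S5.Def Cfsg.Agent.Omega.S5.Syl
open Cfsg.Agent.Omega.NSix.Base Cfsg.Agent.Omega.NSix.Basic Cfsg.Agent.Omega.NSix.Engine
open Cfsg.Agent.Omega.NSix.HTwo.LemTwo (XX In)
open Cfsg.Agent.Omega.NSix.HTwo.Main (Pos)
open Cfsg.Agent.MinSimple.MinParabolic (IsMinPar)

universe u

variable {G : Type u} [Group G] [Finite G] {S : Sylow 2 G} {P : Subgroup G} {m : ℕ}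
  {ε : (Fin (2 ^ m + 1) → ZMod 2) → G} {i j : Fin (2 ^ m + 1)}

/-- `z_0 ∈ Ω₁Z(T)` for `O₂(P) ≤ T ≤ S`, `T` over `V` -/
theorem zz_zero_mem (h : Pos S P ε) {T : Subgroup G} (hT : T ≤ (S : Subgroup G))
    (hV : zl (S : Subgroup G) P ≤ T) : zz ε 0 ∈ zc T := by
  refine mem_zc.2 ⟨hV (zz_mem h.hyp.ev 0), fun t ht => ?_, by rw [pow_two]; exact zz_sq h.hyp.ev 0⟩
  obtain ⟨σ, hσ⟩ := h.hyp.ev.perm t (h.par.le (hT ht))
  have h1 := zz_conj hσ 0
  rw [h.fix0 t (hT ht) σ hσ] at h1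
  exact mul_inv_eq_iff_eq_mul.1 h1

/-- **`bl`** of `Five.five` -/
theorem bl (h : Pos S P ε) (hI : In S (zl (S : Subgroup G) P) P ε i j) :
    jj (S : Subgroup G) ≤ o2 P → ∀ R : Subgroup G, IsMinPar ((S : Subgroup G) ⊓ NN ε i j) R →
      R ≤ NN ε i j → ¬ jj (S : Subgroup G) ≤ o2 R → R ≤ centralizer ({zz ε 0} : Set G) := by
  intro hJ R hR hRN hJR
  set T := (S : Subgroup G) ⊓ NN ε i j with hTdef
  have hO : OmegaOne.Hyp (zl (S : Subgroup G) P) P S ε := by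
    refine ⟨h.hyp.ev, h.par.le, MinSimple.VModule.zc_le_zl _ _, h.hyp.pair, h.hyp.le, ?_⟩
    obtain ⟨a, b, hab, g, hg, -, hgV⟩ := h.hyp.mov
    exact ⟨a, b, hab, g, hg, hgV⟩
  have D := NoBlk.Main.dat_par h.c2 h.par h.hyp.ev (OmegaOne.zc_o2_par h.c2 h.hyp.n5 h.par hO) hJ
  have hV : zl (S : Subgroup G) P ≤ zc (o2 P) := h.par.isLoc.zl_le S h.c2
  have hinf := h.par.inf_centralizer S h.c2
  have hQT : o2 P ≤ T := by
    intro q hq
    have h1 : q ∈ (S : Subgroup G) ⊓ centralizer (zl (S : Subgroup G) P : Set G) := by rw [hinf]; exact hq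
    exact ⟨h1.1, mem_NN.2 (mem_centralizer_iff.1 h1.2 _ (rr_mem h.hyp.ev i j)).symm⟩
  have hVT : zl (S : Subgroup G) P ≤ T := (hV.trans (MinSimple.VModule.zc_le _)).trans hQT
  have hT : Syl T R := by
    obtain ⟨h1, h2, h3⟩ := hI.syl
    exact ⟨hR.le, h2, fun Q hQR hQ hTQ => h3 Q (hQR.trans hRN) hQ hTQ⟩
  have hcN : NN ε i j ⊓ centralizer (o2 (NN ε i j) : Set G) ≤ o2 (NN ε i j) :=
    MinSimple.Basic.char2_centralizer h.c2 (by rw [pow_two]; exact rr_sq hI.hyp.ev i j)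
      (rr_ne_one hI.hyp.ev hI.three hI.ij)
  have hc : R ⊓ centralizer (o2 R : Set G) ≤ o2 R := HTwo.StepFour.char2_of hcN hRN (hI.o2_le_T.trans hR.le)
  have h1 := NoBlk.Main.cen_zc FFBr.ffthm D (by have := h.m3; omega) hQT hT hR hc (rr_mem h.hyp.ev i j)
    (rr_ne_one hI.hyp.ev hI.three hI.ij) hRN hJR
  have h0 := zz_zero_mem h (T := T) inf_le_left hVT
  have h2 : oddGen R ≤ centralizer ({zz ε 0} : Set G) := fun x hx =>
    mem_centralizer_singleton_iff.2 (mem_centralizer_iff.1 (h1 h0) x hx)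
  have h3 : T ≤ centralizer ({zz ε 0} : Set G) := fun x hx =>
    mem_centralizer_singleton_iff.2 ((mem_zc.1 h0).2.1 x hx)
  rw [← TTn.DiCoreAbs.oddGen_sup hR.le (ZN.ChoiceSit.syl_not_dvd hT)]
  exact sup_le h2 h3

end Cfsg.Agent.Omega.NSix.HT.Bl

end

section


/-!
# OMEGA N6, #18920 (helper605): (3) plugged into (4) and (5)  (helper537)

* `key4 : Four.Key V ε i j` : (3) in the form of 605's (4);
* `ki` : the setting of (3) for `D = ⟨r_ij⟩`, `T = T₁`;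
* `five` : (5) with (3) and 628's `Eight.cent` plugged; `bl` (107's THEOREM BL*) and `off` are left.
-/

set_option autoImplicit false
set_option linter.unusedSectionVars false

namespace Cfsg.Agent.Omega.NSix.HT.FivePlug

open Subgroup Cfsg Cfsg.Agent.Omega.MinPar
open Cfsg.Agent.ZN (o2 zc zl jj zj)
open Cfsg.Agent.ZN.ChoiceSit (Syl)
open Cfsg.Agent.MinSimple.VModule (o2_le o2_isPGroup le_normalizer_o2 le_o2 mem_zc)
open Cfsg.Agent.Omega.S5.Def Cfsg.Agent.Omega.S5.Syl Cfsg.Agent.Omega.S5.Pair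
open Cfsg.Agent.Omega.FFThm (Off)
open Cfsg.Agent.Omega.NSix.Base Cfsg.Agent.Omega.NSix.Basic Cfsg.Agent.Omega.NSix.Engine
open Cfsg.Agent.Omega.NSix.CosetAct (V0 mem_V0)
open Cfsg.Agent.Omega.NSix.HTwo.LemTwo (In XX mem_XX KK_le_NN KK_eq V0_le_UU)
open Cfsg.Agent.Omega.NSix.HT.Five (Q0 fix_of_acts mv_iff)
open Cfsg.Agent.Omega.NSix.HT.Key (Ki)
open Cfsg.Agent.MinSimple.MinParabolic (IsMinPar)

universe u

section

variable {G : Type u} [Group G] [Finite G] {m : ℕ} {S : Sylow 2 G} {V P : Subgroup G}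
  {ε : (Fin (2 ^ m + 1) → ZMod 2) → G} {i j : Fin (2 ^ m + 1)}

/-- **(3) for (4)** -/
theorem key4 (h : In S V P ε i j) : Four.Key V ε i j := by
  intro D T R hD0 hr hT hR hRD hmv hcomm
  have hDV : D ≤ V := hD0.trans (HTwo.LemTwo.V0_le h.hyp)
  have hXT : XX ε i j ≤ T := XX_le_syl h hDV hT
  have hTs : Syl T (centralizer (D : Set G)) := syl_D h hDV hr hT
  have hRN : R ≤ NN ε i j := hRD.trans (centralizer_le_NN h hr)
  have hcomm' : ∀ g ∈ R, ∀ v ∈ V, ∀ w ∈ V, g * v * g⁻¹ * w = w * (g * v * g⁻¹) := by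
    intro g hg v hv w hw
    have := hcomm g hg 1 (one_mem _) v hv w hw
    rwa [one_mul, inv_one, mul_one] at this
  obtain ⟨⟨t, ht, htK⟩, h2, h3⟩ := Key.key h.hyp h.ij h.evL h.cut hr (hD0.trans V0_le_UU)
    (hT.1.trans inf_le_right) hXT hTs hR hRD ((mv_iff hRN).2 hmv) hcomm'
  refine ⟨fun t ht s hs htK hsK => ?_, fun h1 => htK (h1 ht), h3⟩
  have htR : t ∈ R := hR.le ht
  have h4 := h2 s hs t ht hsK htK
  have h5 : t⁻¹ * s = t⁻¹ * (s * t⁻¹) * t⁻¹⁻¹ := by group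
  rw [h5]
  exact (mem_normalizer_iff.1 (le_normalizer_o2 _ (inv_mem htR)) _).1 h4

/-- the setting of (3) for `D = ⟨r_ij⟩`, `T = T₁` -/
theorem ki (h : In S V P ε i j) {R : Subgroup G} (hR : IsMinPar ((S : Subgroup G) ⊓ NN ε i j) R)
    (hRN : R ≤ NN ε i j) (hmv : ¬ R ≤ normalizer (Q0 ε i j : Set G))
    (hcomm : ∀ g ∈ R, ∀ v ∈ V, ∀ w ∈ V, g * v * g⁻¹ * w = w * (g * v * g⁻¹)) :
    Ki V P ε i j ((S : Subgroup G) ⊓ NN ε i j) R where
  hyp := h.hyp
  ij := h.ij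
  two := h.T_two
  min := hR
  syl := fun h1 => h.not_dvd (by
    rw [← relIndex_mul_relIndex _ R (NN ε i j) hR.le hRN]
    exact h1.mul_right _)
  RN := hRN
  QT := h.o2_le_T
  Tfix := fun g hg => L_fix h hg.2 (h.SL hg.1)
  XT := h.XX_le_T
  XK := h.not_le_o2 hR.le hRN fun h1 => hmv fun g hg => L_fix h (hRN hg) (h1 hg)
  comm := hcomm
  mv := hmv

end

section

variable {G : Type u} [Group G] [Finite G] {m : ℕ} {S : Sylow 2 G} {P : Subgroup G}
  {ε : (Fin (2 ^ m + 1) → ZMod 2) → G} {i j : Fin (2 ^ m + 1)}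

/-- **#18920 (5)** with (3) and `Eight.cent` -/
theorem five (hFF : FFThm.Stmt.{u}) (h : In S (zl (S : Subgroup G) P) P ε i j) (h3 : 3 ≤ m)
    (hG : IsCharacteristicTwoType G) (hP : IsParS (S : Subgroup G) P)
    (off : ∀ A : Subgroup G, A ≤ (S : Subgroup G) → Off (zl (S : Subgroup G) P) A → Side A ε)
    (bl : jj (S : Subgroup G) ≤ o2 P → ∀ R : Subgroup G, IsMinPar ((S : Subgroup G) ⊓ NN ε i j) R →
      R ≤ NN ε i j → ¬ jj (S : Subgroup G) ≤ o2 R → R ≤ centralizer ({zz ε 0} : Set G))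
    (hmv : ¬ NN ε i j ≤ normalizer (Q0 ε i j : Set G)) :
    ¬ NN ε i j ⊓ centralizer ({zz ε 0} : Set G) ≤ normalizer (Q0 ε i j : Set G) := by
  have e1 : ∀ R : Subgroup G, IsMinPar ((S : Subgroup G) ⊓ NN ε i j) R → R ≤ NN ε i j →
      ¬ R ≤ normalizer (Q0 ε i j : Set G) →
      (∀ g ∈ R, ∀ g' ∈ R, ∀ v ∈ zl (S : Subgroup G) P, ∀ w ∈ zl (S : Subgroup G) P,
        g * v * g⁻¹ * (g' * w * g'⁻¹) = g' * w * g'⁻¹ * (g * v * g⁻¹)) →
      ∀ v ∈ zl (S : Subgroup G) P, (∀ t ∈ (S : Subgroup G) ⊓ NN ε i j, t * v = v * t) →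
        ∀ r ∈ R, r * v = v * r := by
    intro R hR hRN hRmv hcomm v hv hT r hr
    refine (ki h hR hRN hRmv fun g hg v hv w hw => ?_).cent hv hT hr
    have := hcomm g hg 1 (one_mem _) v hv w hw
    rwa [one_mul, inv_one, mul_one] at this
  have e2 : ¬ jj (S : Subgroup G) ≤ o2 P → ∀ R : Subgroup G, IsMinPar ((S : Subgroup G) ⊓ NN ε i j) R →
      R ≤ NN ε i j → ¬ R ≤ normalizer (zl (S : Subgroup G) P : Set G) →
      ∀ v ∈ zl (S : Subgroup G) P, (∀ t ∈ (S : Subgroup G) ⊓ NN ε i j, t * v = v * t) →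
        ∀ r ∈ R, r * v = v * r := by
    intro hJ R hR hRN hRL v hv hT r hr
    have hH : CaseJ.Base.Hyp S P ε := ⟨hG, hP, h.hm, h.hyp.ev, h.fix0, off, hJ⟩
    have h5 := CaseJ.Eight.cent hFF hH h3 i j h.ij h.swap R hR hRN hRL hr
    exact (mem_centralizer_iff.1 h5 v (mem_inf.2 ⟨hv, mem_centralizer_iff.2 hT⟩)).symm
  obtain ⟨R, -, h1, h2, h4⟩ := Five.five h hG hP e1 bl e2 hmv
  exact Five.moves ⟨R, h1, h2, h4⟩

end

end Cfsg.Agent.Omega.NSix.HT.FivePlug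

end

section


/-!
# OMEGA N6, (H2) by #18920 (helper605): the end, K-free  (helper840)

* `comm_zz` : the conjugates of `V` under `C_G(z_k)` commute;
* `false_of` : (4), (5), (6) of #18920;
* `symH2 : SymH2 K`, `symBig : S5.Main.SymBig K` for every class `K`.
-/

set_option autoImplicit false
set_option linter.unusedSectionVars false

namespace Cfsg.Agent.Omega.NSix.HT.EndMain

open Subgroup Cfsg Cfsg.Agent.Omega.MinPar
open Cfsg.Agent.ZN (o2 zc zl jj)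
open Cfsg.Agent.MinSimple.VModule (o2_le o2_isPGroup le_normalizer_o2 le_o2 mem_zc)
open Cfsg.Agent.Omega.Frame (Ctx Cls)
open Cfsg.Agent.Omega.S5.Def Cfsg.Agent.Omega.S5.Syl
open Cfsg.Agent.Omega.NSix.Base Cfsg.Agent.Omega.NSix.Basic Cfsg.Agent.Omega.NSix.Engine
open Cfsg.Agent.Omega.NSix.HTwo.LemTwo (XX In)
open Cfsg.Agent.Omega.NSix.HTwo.Main (Pos)
open Cfsg.Agent.Omega.S5.SymBig (H2 Pr SymH2)
open Cfsg.Agent.MinSimple.MinParabolic (IsMinPar)

universe u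

variable {G : Type u} [Group G] [Finite G] {S : Sylow 2 G} {P : Subgroup G} {m : ℕ}
  {ε : (Fin (2 ^ m + 1) → ZMod 2) → G} {i j : Fin (2 ^ m + 1)}

/-- The conjugates of `V` under `C_G(z_k)` commute. -/
theorem comm_zz (h : Pos S P ε) (k : Fin (2 ^ m + 1)) :
    ∀ g ∈ centralizer ({zz ε k} : Set G), ∀ g' ∈ centralizer ({zz ε k} : Set G),
      ∀ v ∈ zl (S : Subgroup G) P, ∀ w ∈ zl (S : Subgroup G) P,
        g * v * g⁻¹ * (g' * w * g'⁻¹) = g' * w * g'⁻¹ * (g * v * g⁻¹) := by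
  intro g hg g' hg' v hv w hw
  have h1 := PtCen.le_o2_cent h.c2 S h.m3 h.hyp.ev h.par.le h.fix0 k hv
  have h2 := (mem_normalizer_iff.1 (le_normalizer_o2 _ (mul_mem (inv_mem hg') hg)) v).1 h1
  have h3 := mem_centralizer_iff.1 (Fix.o2_le_cent S h.m3 h.hyp.ev h.par.le h.fix0 k h2) w hw
  calc g * v * g⁻¹ * (g' * w * g'⁻¹) = g' * (g'⁻¹ * g * v * (g'⁻¹ * g)⁻¹ * w) * g'⁻¹ := by group
    _ = g' * (w * (g'⁻¹ * g * v * (g'⁻¹ * g)⁻¹)) * g'⁻¹ := by rw [h3]
    _ = _ := by group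

/-- **#18920, (1)-(6)** : a counterexample to (H2) does not exist. -/
theorem false_of (h : Pos S P ε) : False := by
  obtain ⟨i, j, hij, hsw⟩ := PairCen.exists_swap_mem (by have := h.m3; omega) h.hyp.ev
    (MinSimple.Basic.not_dvd_relIndex S h.par.le)
  have hI := HTwo.StepC.in_of h hij hsw
  refine FivePlug.five FFBr.ffthm hI h.m3 h.c2 h.par (fun A hA hoff => ?_) (Bl.bl h hI)
    (Fix.not_le_normalizer h hI) ?_
  · exact EightIn.side_of_off h.hyp.ev hI.three (hA.trans h.par.le)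
      (fun a ha σ hσ => h.fix0 a (hA ha) σ hσ) hoff
  · exact Four.four hI h.m3 (HTwo.StepC.nc_of h) (FivePlug.key4 hI) (comm_zz h 0)

/-- **(H2)** of N6 (`NSix`), for every class. -/
theorem symH2 (K : Cls.{u}) : SymH2 K := by
  intro G _ _ hG hK S _ _ _ _ _ P₁ P₂ y m m' ε ε₂ hm hm' hl _
  by_contra hno
  exact false_of (HTwo.Main.Pos.of (S5.SymBig.pr_of hG.char2 (by omega) hm' hl) hm hl.pair.star₁ hno)

/-- **The leaf II.c**, for every class. -/
theorem symBig (K : Cls.{u}) : S5.Main.SymBig K := S5.SymBig.symBig_of (symH2 K)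

end Cfsg.Agent.Omega.NSix.HT.EndMain

end

section


/-!
# OMEGA II.c: `S5.Main.NatBig` does not occur; the leaf II.c is closed  (helper629)

`V` the even-subset module of degree `2^m + 1 ≥ 9`, `V'` a natural four-group, `b ∈ V'` acts on `V` as `(i j)`.

* `rr_conj` : `r_ij = y z_0 y⁻¹`, so `y S y⁻¹ ≤ C_G(r_ij)`;
* `mov` : `[O₂(C_G(r_ij)), b] ≤ ⟨r_ij⟩`, so `V` satisfies `NSix.Engine.Hyp`;
* `h2` : (H2) holds (`NSix.HT.EndMain.false_of`), so `C_G(r_ij) ≤ N_G(V)` (`NSix.EndL`), but `r_ij` is centralised by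
  no Sylow 2-subgroup of `N_G(V)`: `natBig_false`;
* `natBig K`, `leafC K : FrameMulti.LeafC K` for every class `K`: no node N2, no (ML), no THEOREM SN.
-/

set_option autoImplicit false

namespace Cfsg.Agent.Omega.S5.NatZero

open Subgroup Pointwise Cfsg Cfsg.Agent.Omega.MinPar
open Cfsg.Agent.ZN (o2 zc zl)
open Cfsg.Agent.ZN.ChoiceBase (cj mem_cj cj_mono isPGroup_cj)
open Cfsg.Agent.ZN.ChoiceSit (syl_conj)
open Cfsg.Agent.ZN.CaseTwo (syl_of_sylow)
open Cfsg.Agent.MinSimple.VModule (le_normalizer_zl zc_le_zl o2_isPGroup o2_le o2_le_of_sylow mem_zc)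
open Cfsg.Agent.Omega.Frame
open Cfsg.Agent.Omega.S5.Def Cfsg.Agent.Omega.S5.Syl Cfsg.Agent.Omega.S5.Pair Cfsg.Agent.Omega.S5.Main
open Cfsg.Agent.Omega.NSix.Base Cfsg.Agent.Omega.NSix.Basic
open Cfsg.Agent.Omega.NSix.Zero (WP mem_WP)
open Cfsg.Agent.Omega.NSix.Engine (Hyp D4)
open Cfsg.Agent.Omega.S5.SymBig (H2)

universe u

variable {G : Type u} [Group G]

/-- The point `z_0` is not a pair. -/
theorem rr_ne_zz {n : ℕ} {V P : Subgroup G} {ε : (Fin n → ZMod 2) → G} (h : EvenSet n V P ε) (hn : 5 ≤ n)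
    (i j k : Fin n) : rr ε i j ≠ zz ε k := by
  classical
  intro h0
  have h1 : ε (Pi.single i 1 + Pi.single j 1 + Pi.single k 1) = 1 := by
    rw [h.add, h.add]
    change rr ε i j * zz ε k = 1
    rw [h0, zz_sq h]
  obtain ⟨l, hl⟩ : ∃ l : Fin n, l ∉ ({i, j, k} : Finset (Fin n)) := by
    by_contra hcon
    push Not at hcon
    have h8 : (Finset.univ : Finset (Fin n)) ⊆ {i, j, k} := fun l _ => hcon l
    have h9 := Finset.card_le_card h8
    have h10 : ({i, j, k} : Finset (Fin n)).card ≤ 3 := Finset.card_le_three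
    rw [Finset.card_univ, Fintype.card_fin] at h9
    omega
  simp only [Finset.mem_insert, Finset.mem_singleton, not_or] at hl
  have h2 : (Pi.single i 1 + Pi.single j 1 + Pi.single k 1 : Fin n → ZMod 2) l = 0 := by
    simp only [Pi.add_apply]
    rw [Pi.single_eq_of_ne hl.1, Pi.single_eq_of_ne hl.2.1, Pi.single_eq_of_ne hl.2.2]
    rfl
  rcases (h.ker _).1 h1 with h3 | h3
  · have h4 := congrArg (fun x : Fin n → ZMod 2 => ∑ l, x l) h3
    simp only [Pi.add_apply, Finset.sum_add_distrib, Finset.sum_pi_single', Finset.mem_univ,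
      if_true, Pi.zero_apply, Finset.sum_const_zero] at h4
    revert h4; decide
  · have h4 := congrFun h3 l
    rw [h2, Pi.one_apply] at h4
    exact zero_ne_one h4

variable [Finite G] {S : Sylow 2 G} {P₁ P₂ : Subgroup G} {y : G} {m : ℕ} {ε : (Fin (2 ^ m + 1) → ZMod 2) → G}

/-- `Ω₁(Z(S)) = ⟨z_0⟩` -/
theorem zc_cases (hm : 2 ≤ m) (hl : Lab S P₁ P₂ y m ε) {x : G} (hx : x ∈ zc (S : Subgroup G)) :
    x = 1 ∨ x = zz ε 0 :=
  S5.Syl.fixed (by omega) hl.even hl.pair.star₁.le (MinSimple.Basic.not_dvd_relIndex S hl.pair.star₁.le) hl.fix0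
    (zc_le_zl _ _ hx) fun s hs => (mem_zc.mp hx).2.1 s hs

theorem zz_comm_S (hm : 2 ≤ m) (hl : Lab S P₁ P₂ y m ε) : ∀ s ∈ (S : Subgroup G), s * zz ε 0 = zz ε 0 * s := by
  have hn3 : 3 ≤ 2 ^ m + 1 := three_le (by omega)
  intro s hs
  obtain ⟨σ, hσ⟩ := hl.even.perm s (hl.pair.star₁.le hs)
  exact (hl.even.fixes_iff hn3 hσ 0).2 (hl.fix0 s hs σ hσ)

theorem zc_ne (hG : IsCharacteristicTwoType G) (hm : 2 ≤ m) (hl : Lab S P₁ P₂ y m ε) : zc (S : Subgroup G) ≠ ⊥ := by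
  have hn3 : 3 ≤ 2 ^ m + 1 := three_le (by omega)
  have hVS : zl (S : Subgroup G) P₁ ≤ (S : Subgroup G) :=
    (hl.pair.star₁.isLoc.zl_le S hG).trans ((MinSimple.VModule.zc_le _).trans (hl.pair.star₁.isLoc.o2_le S))
  have hzz : zz ε 0 ∈ zc (S : Subgroup G) :=
    mem_zc.mpr ⟨hVS (zz_mem hl.even 0), zz_comm_S hm hl, by rw [pow_two]; exact zz_sq hl.even 0⟩
  intro h0
  rw [h0, mem_bot] at hzz
  exact hl.even.single_ne_one hn3 0 hzz

/-- some `b ∈ V'` acts as `(i j)`, `r_ij = y z_0 y⁻¹` -/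
theorem exists_b (hG : IsCharacteristicTwoType G) (hm : 2 ≤ m) (hl : Lab S P₁ P₂ y m ε)
    (h4 : Nat.card (zl (S : Subgroup G) P₂) = 4) :
    ∃ b ∈ cj y (zl (S : Subgroup G) P₂), ∃ i j, i ≠ j ∧ Acts ε b (Equiv.swap i j) ∧
      rr ε i j = y * zz ε 0 * y⁻¹ := by
  have h := hl.even
  have hn3 : 3 ≤ 2 ^ m + 1 := three_le (by omega)
  obtain ⟨b, hb, i, j, hij, hbs⟩ := S5.Nat.exists_swap h hl.side hl.off₁.ne
  have hb' := mem_cj.mp hb
  refine ⟨b, hb, i, j, hij, hbs, ?_⟩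
  have h1 : b * zz ε i * b⁻¹ = zz ε j := by
    have := hbs.single i
    rwa [Equiv.swap_apply_left] at this
  have h2 : rr ε i j = zz ε i * b * (zz ε i)⁻¹ * b⁻¹ := by
    unfold NSix.Base.rr
    rw [← h1, zz_inv h]
    group
  have h3 : y⁻¹ * zz ε i * y ∈ (S : Subgroup G) := mem_cj.mp (hl.ge (zz_mem h i))
  have h5 := S5.NatBig.comm_mem_zc h4 (zc_ne hG hm hl) (zc_le_zl _ _)
    (hl.pair.star₂.le.trans (le_normalizer_zl _ _)) h3 hb'
  have h6 : y⁻¹ * rr ε i j * y =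
      y⁻¹ * zz ε i * y * (y⁻¹ * b * y) * (y⁻¹ * zz ε i * y)⁻¹ * (y⁻¹ * b * y)⁻¹ := by
    rw [h2]; group
  rw [← h6] at h5
  have h7 : y⁻¹ * rr ε i j * y = zz ε 0 := by
    refine (zc_cases hm hl h5).resolve_left fun h0 => ?_
    apply NSix.Basic.rr_ne_one h hn3 hij
    calc rr ε i j = y * (y⁻¹ * rr ε i j * y) * y⁻¹ := by group
      _ = 1 := by rw [h0, mul_one, mul_inv_cancel]
  rw [← h7]
  group

/-- `y S y⁻¹ ≤ C_G(r_ij)` -/
theorem cj_le_NN (hm : 2 ≤ m) (hl : Lab S P₁ P₂ y m ε) {i j : Fin (2 ^ m + 1)}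
    (hr : rr ε i j = y * zz ε 0 * y⁻¹) : cj y (S : Subgroup G) ≤ NN ε i j := by
  intro s hs
  rw [mem_NN, hr]
  have h1 := zz_comm_S hm hl _ (mem_cj.mp hs)
  calc s * (y * zz ε 0 * y⁻¹) = y * (y⁻¹ * s * y * zz ε 0) * y⁻¹ := by group
    _ = y * (zz ε 0 * (y⁻¹ * s * y)) * y⁻¹ := by rw [h1]
    _ = y * zz ε 0 * y⁻¹ * s := by group

/-- `[O₂(C_G(r_ij)), b] ≤ ⟨r_ij⟩` for `b ∈ V'` -/
theorem mem_WP_of (hG : IsCharacteristicTwoType G) (hm : 2 ≤ m) (hl : Lab S P₁ P₂ y m ε)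
    (h4 : Nat.card (zl (S : Subgroup G) P₂) = 4) {i j : Fin (2 ^ m + 1)} (hr : rr ε i j = y * zz ε 0 * y⁻¹)
    {b : G} (hb : b ∈ cj y (zl (S : Subgroup G) P₂)) : b ∈ WP ε i j := by
  have hV'S : zl (S : Subgroup G) P₂ ≤ (S : Subgroup G) :=
    (hl.pair.star₂.isLoc.zl_le S hG).trans ((MinSimple.VModule.zc_le _).trans (hl.pair.star₂.isLoc.o2_le S))
  rw [mem_WP]
  refine ⟨cj_le_NN hm hl hr (cj_mono y hV'S hb), fun q hq => ?_⟩
  have hq' : q ∈ cj y (S : Subgroup G) := by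
    have h1 : cj y (S : Subgroup G) = ((y • S : Sylow 2 G) : Subgroup G) := (NSix.NoTk.coe_smul S y).symm
    have h2 : ¬ 2 ∣ (cj y (S : Subgroup G)).relIndex (NN ε i j) := by
      rw [h1]
      exact MinSimple.Basic.not_dvd_relIndex _ (by rw [← h1]; exact cj_le_NN hm hl hr)
    refine o2_le_of_sylow ?_ h2 hq
    rw [h1]
    exact (y • S : Sylow 2 G).isPGroup'
  have h3 := mem_cj.mp hq'
  have h5 := S5.NatBig.comm_mem_zc h4 (zc_ne hG hm hl) (zc_le_zl _ _)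
    (hl.pair.star₂.le.trans (le_normalizer_zl _ _)) h3 (mem_cj.mp hb)
  have h6 : b * q * b⁻¹ * q⁻¹ = y * (y⁻¹ * q * y * (y⁻¹ * b * y) * (y⁻¹ * q * y)⁻¹ * (y⁻¹ * b * y)⁻¹)⁻¹ * y⁻¹ := by
    group
  rw [h6]
  rcases zc_cases hm hl h5 with h7 | h7
  · rw [h7, inv_one, mul_one, mul_inv_cancel]
    exact one_mem _
  · rw [h7, zz_inv hl.even, ← hr]
    exact mem_zpowers _

/-- `Engine.Hyp` -/
theorem hyp (hG : IsCharacteristicTwoType G) (hm : 3 ≤ m) (hl : Lab S P₁ P₂ y m ε)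
    (h4 : Nat.card (zl (S : Subgroup G) P₂) = 4) : Hyp (zl (S : Subgroup G) P₁) P₁ ε := by
  have hs : NSix.AllFacts.Sit S (zl (S : Subgroup G) P₁) P₁ ε :=
    ⟨hG, hm, hl.even, hl.pair.star₁.le, hl.fix0, zc_le_zl _ _⟩
  obtain ⟨b, hb, i, j, hij, hbs, hr⟩ := exists_b hG (by omega) hl h4
  refine Hyp.of hG (five_le (by omega)) (Even.add_one (Nat.even_pow.mpr ⟨even_two, by omega⟩)) hl.even S
    hl.pair.star₁.le (zc_le_zl _ _) (fun i j k hij hki hkj q hq => hs.pair hij hki hkj hq)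
    (fun i j hij => hs.o2_le_P hij) ⟨i, j, hij, b, mem_WP_of hG (by omega) hl h4 hr hb, ?_, ?_⟩
  · have h5 : b * b = 1 := by
      have h6 := MinSimple.VModule.mem_zc.mp (hl.pair.star₂.isLoc.zl_le S hG (mem_cj.mp hb))
      calc b * b = y * ((y⁻¹ * b * y) ^ 2) * y⁻¹ := by rw [pow_two]; group
        _ = 1 := by rw [h6.2.2, mul_one, mul_inv_cancel]
    rw [h5]
    exact one_mem _
  · intro h0
    have h1 := hl.even.acts_unique (three_le (by omega)) (hl.even.acts_one_iff.mpr h0) hbs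
    exact hij (Equiv.swap_eq_one_iff.mp h1.symm)

/-- **`NatBig` does not occur.** -/
theorem natBig_false (hG : IsCharacteristicTwoType G) (hm : 3 ≤ m) (hl : Lab S P₁ P₂ y m ε)
    (h4 : Nat.card (zl (S : Subgroup G) P₂) = 4) : False := by
  have hn5 : 5 ≤ 2 ^ m + 1 := five_le (by omega)
  have hn3 : 3 ≤ 2 ^ m + 1 := by omega
  have hh := hyp hG hm hl h4
  by_cases h2 : H2 ε
  · obtain ⟨b, hb, i, j, hij, hbs, hr⟩ := exists_b hG (by omega) hl h4
    have h7 : 7 ≤ 2 ^ m + 1 := by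
      have : 2 ^ 3 ≤ 2 ^ m := Nat.pow_le_pow_right (by norm_num) hm
      omega
    have hs : NSix.AllFacts.Sit S (zl (S : Subgroup G) P₁) P₁ ε :=
      ⟨hG, hm, hl.even, hl.pair.star₁.le, hl.fix0, zc_le_zl _ _⟩
    have h1 := NSix.Zero.sixL hG hm hl.even S hl.pair.star₁.le hl.fix0 (zc_le_zl _ _)
      (fun i j k hij hki hkj q hq => hs.pair hij hki hkj hq) (fun i j hij => hs.o2_le_P hij) h2 (by
        obtain ⟨i, j, hij, g, hg, -, hgV⟩ := hh.mov
        exact ⟨i, j, hij, g, hg, hgV⟩)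
    have h3 := NSix.EndL.SixL.nn_le h1 (Even.add_one (Nat.even_pow.mpr ⟨even_two, by omega⟩)) h7 hij
    -- `y S y⁻¹` is Sylow in `N_G(V)`
    have h5 : cj y (S : Subgroup G) ≤ normalizer (zl (S : Subgroup G) P₁ : Set G) :=
      (cj_le_NN (by omega) hl hr).trans h3
    have h6 : (S : Subgroup G) ≤ normalizer (zl (S : Subgroup G) P₁ : Set G) :=
      hl.pair.star₁.le.trans (le_normalizer_zl _ _)
    have hev := NSix.Norm.evenSet' (by omega) S hl.even hl.pair.star₁.le hl.fix0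
    -- a conjugate of `r_ij` under `N_G(V)` is fixed by `S`
    have hyS : cj y (S : Subgroup G) = ((y • S : Sylow 2 G) : Subgroup G) := (NSix.NoTk.coe_smul S y).symm
    obtain ⟨g, hg, hgS⟩ := syl_conj (syl_of_sylow S h6)
      (T := cj y (S : Subgroup G)) (by rw [hyS]; exact syl_of_sylow _ (by rw [← hyS]; exact h5))
    obtain ⟨σ, hσ⟩ := hev.perm g⁻¹ (inv_mem hg)
    have h8 := rr_conj hσ i j
    have hne : σ i ≠ σ j := fun e => hij (σ.injective e)
    have hfix : ∀ s ∈ (S : Subgroup G), s * rr ε (σ i) (σ j) = rr ε (σ i) (σ j) * s := by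
      intro s hs
      have h9 : g * s * g⁻¹ ∈ cj y (S : Subgroup G) := by
        rw [← hgS, mem_cj]
        have : g⁻¹ * (g * s * g⁻¹) * g = s := by group
        rw [this]
        exact hs
      have h10 := mem_NN.mp (cj_le_NN (by omega) hl hr h9)
      rw [← h8]
      calc s * (g⁻¹ * rr ε i j * g⁻¹⁻¹) = g⁻¹ * (g * s * g⁻¹ * rr ε i j) * g := by group
        _ = g⁻¹ * (rr ε i j * (g * s * g⁻¹)) * g := by rw [h10]
        _ = _ := by group
    rcases S5.Syl.fixed (by omega) hl.even hl.pair.star₁.le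
      (MinSimple.Basic.not_dvd_relIndex S hl.pair.star₁.le) hl.fix0 (rr_mem hl.even _ _) hfix with h9 | h9
    · exact rr_ne_one hl.even hn3 hne h9
    · exact rr_ne_zz hl.even hn5 _ _ 0 h9
  · refine NSix.HT.EndMain.false_of (S := S) (P := P₁) (ε := ε) ⟨hG, hm, hl.pair.star₁, hh, hl.fix0, ?_⟩
    exact fun i j k l hD hc => h2 fun a b c d hab hcd hac had hbc hbd =>
      hh.hq_of_comm (fun {_ _ _ _} hD' => hh.comm_transfer hD hD' hc) ⟨hab, hac, had, hbc, hbd, hcd⟩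

/-! ### The leaf II.c -/

theorem natBig (K : Cls.{u}) : NatBig K := fun _ _ _ hG _ _ _ _ _ _ _ _ _ _ _ _ hm hl _ _ h4 =>
  (natBig_false hG.char2 hm hl h4).elim

/-- **II.c is closed**: no open input, for every class. -/
theorem leafC (K : Cls.{u}) : FrameMulti.LeafC K :=
  NTwo.Zero.leafC_of TTn.ttNon_main (natBig K) (NSix.HT.EndMain.symBig K)

end Cfsg.Agent.Omega.S5.NatZero

end
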